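import Mathlib

/-!
Brauer's count: over an algebraically closed field of characteristic `p` the group algebra has as many
matrix factors modulo its nilpotent kernel as the group has classes of `p`-regular elements.
-/

set_option autoImplicit false

namespace Cfsg.Agent.Lib.RegularCount

open Matrix MonoidAlgebra

universe u v

variable {G : Type u} [Group G] {k : Type v} [Field k]

/-- The classes of `p`-regular elements. -/
abbrev RegClass (p : ℕ) (G : Type u) [Group G] : Type u :=
  {c : ConjClasses G // ∃ g : G, ConjClasses.mk g = c ∧ ¬ p ∣ orderOf g}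

/-! ### Monomial representations -/

variable (H : Subgroup G) (lam : ↥H →* k)

/-- A representative of a left coset. -/
noncomputable def rep (a : G ⧸ H) : G := a.out

theorem mk_rep (a : G ⧸ H) : (QuotientGroup.mk (rep H a) : G ⧸ H) = a := QuotientGroup.out_eq' a

theorem rep_inv_mul_mem (g : G) (a : G ⧸ H) : (rep H (g • a))⁻¹ * g * rep H a ∈ H := by
  rw [mul_assoc, ← QuotientGroup.eq, mk_rep]
  conv_lhs => rw [← mk_rep H a]
  rfl

/-- The matrices of the representation induced from a linear character. -/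
noncomputable def monoMat [DecidableEq (G ⧸ H)] (g : G) : Matrix (G ⧸ H) (G ⧸ H) k :=
  Matrix.of fun a b => if g • b = a then lam ⟨_, rep_inv_mul_mem H g b⟩ else 0

theorem monoMat_one [DecidableEq (G ⧸ H)] : monoMat H lam (1 : G) = 1 := by
  ext a b
  simp only [monoMat, Matrix.of_apply, one_smul, Matrix.one_apply]
  by_cases h : b = a
  · subst h
    rw [if_pos rfl, if_pos rfl]
    exact (congrArg lam (Subtype.ext (by simp))).trans (map_one lam)
  · rw [if_neg h, if_neg (Ne.symm h)]

theorem monoMat_mul [Finite G] [Fintype (G ⧸ H)] [DecidableEq (G ⧸ H)] (g g' : G) :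
    monoMat H lam (g * g') = monoMat H lam g * monoMat H lam g' := by
  ext a b
  simp only [monoMat, Matrix.of_apply, Matrix.mul_apply]
  rw [Finset.sum_eq_single (g' • b)]
  · rw [if_pos rfl]
    by_cases h : g • g' • b = a
    · rw [if_pos ((mul_smul g g' b).trans h), if_pos h, ← map_mul]
      refine congrArg lam (Subtype.ext ?_)
      simp only [Subgroup.coe_mul, mul_smul]
      group
    · rw [if_neg (fun e => h ((mul_smul g g' b).symm.trans e)), if_neg h, zero_mul]
  · intro c _ hc
    rw [if_neg (Ne.symm hc), mul_zero]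
  · intro h; exact absurd (Finset.mem_univ _) h

/-- The induced representation. -/
noncomputable def monoHom [Finite G] [Fintype (G ⧸ H)] [DecidableEq (G ⧸ H)] :
    G →* Matrix (G ⧸ H) (G ⧸ H) k where
  toFun := monoMat H lam
  map_one' := monoMat_one H lam
  map_mul' := monoMat_mul H lam

theorem trace_monoHom [Finite G] [Fintype (G ⧸ H)] [DecidableEq (G ⧸ H)] (g : G) :
    Matrix.trace (monoHom H lam g) =
      ∑ a : G ⧸ H, if g • a = a then lam ⟨_, rep_inv_mul_mem H g a⟩ else 0 := by
  simp [Matrix.trace, monoHom, monoMat]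

/-! ### Traces -/

section traces

variable {p : ℕ} [Fact p.Prime] [CharP k p]

/-- The `p'`-part of an element: multiply by a nilpotent-free exponent. -/
theorem exists_regular_part [Finite G] (g : G) :
    ∃ x y : G, g = x * y ∧ Commute x y ∧ (∃ n : ℕ, x ^ p ^ n = 1) ∧ ¬ p ∣ orderOf y := by
  obtain ⟨n, m, hm, e⟩ := Nat.exists_eq_pow_mul_and_not_dvd (isOfFinOrder_of_finite g).orderOf_pos.ne' p
    (Fact.out : p.Prime).ne_one
  have hcop : Nat.Coprime (p ^ n) m :=
    Nat.Coprime.pow_left n ((Fact.out : p.Prime).coprime_iff_not_dvd.2 hm)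
  have hb := Nat.gcd_eq_gcd_ab (p ^ n) m
  rw [hcop.gcd_eq_one] at hb
  set u : ℤ := Nat.gcdA (p ^ n) m
  set v : ℤ := Nat.gcdB (p ^ n) m
  refine ⟨g ^ ((m : ℤ) * v), g ^ (((p ^ n : ℕ) : ℤ) * u), ?_, (Commute.refl g).zpow_zpow _ _, ⟨n, ?_⟩, ?_⟩
  · rw [← _root_.zpow_add, add_comm, ← hb]; simp
  · rw [← zpow_natCast, ← _root_.zpow_mul, show (m : ℤ) * v * ((p ^ n : ℕ) : ℤ) = ((orderOf g : ℕ) : ℤ) * v by
      rw [e]; push_cast; ring, _root_.zpow_mul, zpow_natCast, pow_orderOf_eq_one, _root_.one_zpow]
  · intro hd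
    refine hm (hd.trans (orderOf_dvd_of_pow_eq_one ?_))
    rw [← zpow_natCast, ← _root_.zpow_mul, show ((p ^ n : ℕ) : ℤ) * u * (m : ℤ) = ((orderOf g : ℕ) : ℤ) * u by
      rw [e]; push_cast; ring, _root_.zpow_mul, zpow_natCast, pow_orderOf_eq_one, _root_.one_zpow]

theorem trace_mul_unipotent {ι : Type*} [Fintype ι] [DecidableEq ι] {X Y : Matrix ι ι k} (hc : Commute X Y)
    {n : ℕ} (hX : X ^ p ^ n = 1) : Matrix.trace (X * Y) = Matrix.trace Y := by
  rcases isEmpty_or_nonempty ι with hι | hι
  · simp [Matrix.trace]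
  have h1 : (X - 1) ^ p ^ n = 0 := by
    rw [sub_pow_char_pow_of_commute p n (Commute.one_right X), hX, one_pow, sub_self]
  have h2 : IsNilpotent ((X - 1) * Y) :=
    (hc.sub_left (Commute.one_left Y)).isNilpotent_mul_right ⟨_, h1⟩
  have h3 := (Matrix.isNilpotent_trace_of_isNilpotent h2).eq_zero
  rw [sub_mul, one_mul, Matrix.trace_sub] at h3
  exact sub_eq_zero.1 h3

theorem trace_regular_part [Finite G] {ι : Type*} [Fintype ι] [DecidableEq ι] (ρ : G →* Matrix ι ι k)
    {g x y : G} (e : g = x * y) (hc : Commute x y) {n : ℕ} (hx : x ^ p ^ n = 1) :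
    Matrix.trace (ρ g) = Matrix.trace (ρ y) := by
  rw [e, map_mul]
  exact trace_mul_unipotent (hc.map ρ) (n := n) (by rw [← map_pow, hx, map_one])

omit [Fact p.Prime] [CharP k p] in
theorem trace_conj {ι : Type*} [Fintype ι] [DecidableEq ι] (ρ : G →* Matrix ι ι k) {g h : G}
    (e : IsConj g h) : Matrix.trace (ρ g) = Matrix.trace (ρ h) := by
  obtain ⟨c, hc⟩ := e
  have e' : h = (c : G) * g * (c : G)⁻¹ := eq_mul_inv_of_mul_eq hc.eq.symm
  rw [e', map_mul, map_mul, mul_assoc, Matrix.trace_mul_comm (ρ (c : G)), mul_assoc, ← map_mul ρ,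
    inv_mul_cancel, map_one, mul_one]

end traces

/-! ### The count -/

variable {p : ℕ} [hp : Fact p.Prime] [CharP k p] [IsAlgClosed k]

/-- For every `p`-regular element some combination of traces of representations is the indicator of its
class on the `p`-regular elements. -/
theorem exists_indicator [Finite G] (y : G) (hy : ¬ p ∣ orderOf y) :
    ∃ (S : Subgroup G) (c : Fin (orderOf y) → k) (lam : Fin (orderOf y) → (↥S →* k)),
      ∀ [Fintype (G ⧸ S)] [DecidableEq (G ⧸ S)],
        (∀ g : G, ¬ p ∣ orderOf g → ¬ IsConj g y → ∑ j, c j * Matrix.trace (monoHom S (lam j) g) = 0) ∧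
          ∑ j, c j * Matrix.trace (monoHom S (lam j) y) ≠ 0 := by
  classical
  set m := orderOf y with hm
  have hm0 : 0 < m := (isOfFinOrder_of_finite y).orderOf_pos
  haveI : NeZero m := ⟨hm0.ne'⟩
  haveI : NeZero (m : k) := ⟨fun h => hy ((CharP.cast_eq_zero_iff k p m).1 h)⟩
  set C := Subgroup.centralizer ({y} : Set G) with hC
  let P : Sylow p ↥C := default
  -- the abelian group generated by `y`
  let ey : Multiplicative (ZMod m) →* G :=
    { toFun := fun a => y ^ (Multiplicative.toAdd a).val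
      map_one' := by simp
      map_mul' := fun a b => by
        show y ^ (Multiplicative.toAdd a + Multiplicative.toAdd b).val = _
        rw [← pow_add, ZMod.val_add]
        exact pow_mod_orderOf y _ }
  have hey : Function.Injective ey := by
    intro a b e
    have h1 := pow_injOn_Iio_orderOf (x := y) (show (Multiplicative.toAdd a).val ∈ Set.Iio (orderOf y) from
      ZMod.val_lt _) (show (Multiplicative.toAdd b).val ∈ Set.Iio (orderOf y) from ZMod.val_lt _) e
    exact Multiplicative.toAdd.injective (ZMod.val_injective m h1)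
  have hcomm : ∀ (a : Multiplicative (ZMod m)) (x : ↥(P : Subgroup ↥C)), Commute (ey a) (x : ↥C).1 := by
    intro a x
    have h1 : (x : ↥C).1 * y = y * (x : ↥C).1 := Subgroup.mem_centralizer_singleton_iff.1 (x : ↥C).2
    exact (show Commute y (x : ↥C).1 from h1.symm).pow_left _
  let ψ : Multiplicative (ZMod m) × ↥(P : Subgroup ↥C) →* G :=
    MonoidHom.noncommCoprod ey (C.subtype.comp (P : Subgroup ↥C).subtype) hcomm
  have hψ : ∀ a x, ψ (a, x) = ey a * (x : ↥C).1 := fun a x => rfl
  have hpp : ∀ x : ↥(P : Subgroup ↥C), ∃ n : ℕ, (x : ↥C).1 ^ p ^ n = 1 := fun x => by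
    obtain ⟨n, hn⟩ := P.2 x
    exact ⟨n, by rw [← SubgroupClass.coe_pow, ← SubgroupClass.coe_pow, hn]; rfl⟩
  have hone : ∀ {z : G}, (∃ n : ℕ, z ^ p ^ n = 1) → ¬ p ∣ orderOf z → z = 1 := by
    rintro z ⟨n, hn⟩ hz
    rw [← orderOf_eq_one_iff]
    exact Nat.eq_one_of_dvd_coprimes
      (Nat.Coprime.pow_left n (hp.out.coprime_iff_not_dvd.2 hz)) (orderOf_dvd_of_pow_eq_one hn) dvd_rfl
  have hψi : Function.Injective ψ := by
    refine (injective_iff_map_eq_one ψ).2 ?_
    rintro ⟨a, x⟩ e
    rw [hψ] at e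
    have h1 : (x : ↥C).1 = (ey a)⁻¹ := eq_inv_of_mul_eq_one_right e
    have h2 : (x : ↥C).1 = 1 := by
      refine hone (hpp x) fun hd => hy (hd.trans ?_)
      rw [h1, orderOf_inv]
      exact orderOf_dvd_of_pow_eq_one (by
        show (y ^ _) ^ orderOf y = 1
        rw [← pow_mul, mul_comm, pow_mul, pow_orderOf_eq_one, one_pow])
    rw [h2, eq_comm, inv_eq_one] at h1
    exact Prod.ext (hey (h1.trans (map_one ey).symm)) (Subtype.ext (Subtype.ext h2))
  let S : Subgroup G := ψ.range
  let θ : ↥S →* Multiplicative (ZMod m) :=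
    (MonoidHom.fst (Multiplicative (ZMod m)) ↥(P : Subgroup ↥C)).comp
      (MonoidHom.ofInjective hψi).symm.toMonoidHom
  obtain ⟨ζ, hζ⟩ := HasEnoughRootsOfUnity.exists_primitiveRoot k m
  let chi : ℕ → (Multiplicative (ZMod m) →* k) := fun j =>
    { toFun := fun a => (ζ ^ j) ^ (Multiplicative.toAdd a).val
      map_one' := by simp
      map_mul' := fun a b => by
        show (ζ ^ j) ^ (Multiplicative.toAdd a + Multiplicative.toAdd b).val = _
        rw [← pow_add, ZMod.val_add]
        exact (pow_eq_pow_mod _ (by rw [← pow_mul, mul_comm, pow_mul, hζ.pow_eq_one, one_pow])).symm }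
  refine ⟨S, fun j => ((ζ ^ (j : ℕ)) ^ (1 : ZMod m).val)⁻¹, fun j => (chi j).comp θ, fun {_} {_} => ?_⟩
  have hsum : ∀ s : ↥S, ∑ j : Fin m, ((ζ ^ (j : ℕ)) ^ (1 : ZMod m).val)⁻¹ * (chi j) (θ s) =
      if θ s = Multiplicative.ofAdd 1 then (m : k) else 0 := by
    intro s
    set r : k := ζ ^ (Multiplicative.toAdd (θ s)).val * (ζ ^ (1 : ZMod m).val)⁻¹ with hr
    have hterm : ∀ j : Fin m, ((ζ ^ (j : ℕ)) ^ (1 : ZMod m).val)⁻¹ * (chi j) (θ s) = r ^ (j : ℕ) := by
      intro j
      rw [hr, mul_pow, inv_pow, mul_comm, ← pow_mul, ← pow_mul, ← pow_mul]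
      show (ζ ^ (j : ℕ)) ^ _ * _ = _
      rw [← pow_mul, mul_comm (j : ℕ) (Multiplicative.toAdd (θ s)).val, mul_comm (j : ℕ) (1 : ZMod m).val]
    rw [Finset.sum_congr rfl fun j _ => hterm j, Fin.sum_univ_eq_sum_range (fun j => r ^ j)]
    split_ifs with h
    · have : r = 1 := by rw [hr, h]; exact mul_inv_cancel₀ (pow_ne_zero _ (hζ.ne_zero hm0.ne'))
      simp [this]
    · have hr1 : r ≠ 1 := by
        intro e
        rw [hr, mul_inv_eq_one₀ (pow_ne_zero _ (hζ.ne_zero hm0.ne'))] at e
        exact h (Multiplicative.toAdd.injective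
          (ZMod.val_injective m (hζ.pow_inj (ZMod.val_lt _) (ZMod.val_lt _) e)))
      have hrm : r ^ m = 1 := by
        rw [hr, mul_pow, inv_pow, ← pow_mul, ← pow_mul, mul_comm, mul_comm _ m, mul_comm _ m, pow_mul, pow_mul,
          hζ.pow_eq_one, one_pow, one_pow, inv_one, one_mul]
      rw [geom_sum_eq hr1, hrm, sub_self, zero_div]
  have hT : ∀ g : G, ∑ j : Fin m, ((ζ ^ (j : ℕ)) ^ (1 : ZMod m).val)⁻¹ *
      Matrix.trace (monoHom S ((chi j).comp θ) g) =
      ∑ a : G ⧸ S, if g • a = a then
        (if θ ⟨_, rep_inv_mul_mem S g a⟩ = Multiplicative.ofAdd 1 then (m : k) else 0) else 0 := by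
    intro g
    simp only [trace_monoHom, Finset.mul_sum]
    rw [Finset.sum_comm]
    refine Finset.sum_congr rfl fun a _ => ?_
    split_ifs with h1 h2
    · exact (hsum _).trans (if_pos h2)
    · exact (hsum _).trans (if_neg h2)
    · exact Finset.sum_eq_zero fun j _ => mul_zero _
  have hkey : ∀ (g : G) (a : G ⧸ S), ¬ p ∣ orderOf g → g • a = a →
      θ ⟨_, rep_inv_mul_mem S g a⟩ = Multiplicative.ofAdd 1 → (rep S a)⁻¹ * g * rep S a = y := by
    intro g a hg h1 h2
    obtain ⟨⟨b, x⟩, hbx⟩ := (rep_inv_mul_mem S g a : (rep S (g • a))⁻¹ * g * rep S a ∈ ψ.range)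
    have hb : b = Multiplicative.ofAdd 1 := by
      rw [← h2]
      show b = ((MonoidHom.ofInjective hψi).symm ⟨_, _⟩).1
      rw [show (⟨(rep S (g • a))⁻¹ * g * rep S a, rep_inv_mul_mem S g a⟩ : ↥S) =
          MonoidHom.ofInjective hψi (b, x) from Subtype.ext hbx.symm, MulEquiv.symm_apply_apply]
    rw [h1, hψ, hb] at hbx
    have hy1 : ey (Multiplicative.ofAdd 1) = y := by
      show y ^ (1 : ZMod m).val = y
      rw [ZMod.val_one_eq_one_mod, hm, pow_mod_orderOf, pow_one]
    rw [hy1] at hbx
    have hx : (x : ↥C).1 = 1 := by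
      refine hone (hpp x) fun hd => hg ?_
      have he : orderOf g = orderOf (y * (x : ↥C).1) := by
        rw [hbx]
        exact (MulEquiv.orderOf_eq (MulAut.conj (rep S a)⁻¹) g).symm.trans
          (by rw [MulAut.conj_apply, inv_inv])
      have hcx : Commute y (x : ↥C).1 := by rw [← hy1]; exact hcomm _ x
      obtain ⟨n, hn⟩ := hpp x
      have hcop : (orderOf y).Coprime (orderOf (x : ↥C).1) :=
        Nat.Coprime.coprime_dvd_right (orderOf_dvd_of_pow_eq_one hn)
          (Nat.Coprime.pow_right n (hp.out.coprime_iff_not_dvd.2 hy).symm)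
      rw [he, hcx.orderOf_mul_eq_mul_orderOf_of_coprime hcop]
      exact hd.mul_left _
    rw [hx, mul_one] at hbx
    exact hbx.symm
  refine ⟨fun g hg hng => ?_, ?_⟩
  · rw [hT]
    refine Finset.sum_eq_zero fun a _ => ?_
    split_ifs with h1 h2
    · refine absurd ?_ hng
      rw [isConj_iff]
      exact ⟨(rep S a)⁻¹, by rw [inv_inv]; exact hkey g a hg h1 h2⟩
    all_goals rfl
  · rw [hT]
    have hSC : S ≤ C := by
      rintro _ ⟨⟨b, x⟩, rfl⟩
      rw [hψ]
      exact mul_mem (pow_mem (Subgroup.mem_centralizer_singleton_iff.2 rfl) _) (x : ↥C).2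
    have hyS : y ∈ S := ⟨(Multiplicative.ofAdd 1, 1), by
      rw [hψ]
      show y ^ (1 : ZMod m).val * 1 = y
      rw [ZMod.val_one_eq_one_mod, hm, pow_mod_orderOf, pow_one, mul_one]⟩
    have hset : ∀ a : G ⧸ S, (if y • a = a then
        (if θ ⟨_, rep_inv_mul_mem S y a⟩ = Multiplicative.ofAdd 1 then (m : k) else 0) else 0) =
          if rep S a ∈ C then (m : k) else 0 := by
      intro a
      by_cases hac : rep S a ∈ C
      · have hc1 : rep S a * y = y * rep S a := Subgroup.mem_centralizer_singleton_iff.1 hac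
        have h1 : y • a = a := by
          conv_lhs => rw [← mk_rep S a]
          show (QuotientGroup.mk (y * rep S a) : G ⧸ S) = a
          rw [← hc1, QuotientGroup.mk_mul_of_mem _ hyS, mk_rep]
        rw [if_pos h1, if_pos hac, if_pos]
        have e : (rep S (y • a))⁻¹ * y * rep S a = y := by rw [h1, mul_assoc, ← hc1, inv_mul_cancel_left]
        show ((MonoidHom.ofInjective hψi).symm ⟨_, _⟩).1 = _
        rw [show (⟨(rep S (y • a))⁻¹ * y * rep S a, rep_inv_mul_mem S y a⟩ : ↥S) =
          MonoidHom.ofInjective hψi (Multiplicative.ofAdd 1, 1) from Subtype.ext (e.trans (by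
            show _ = ψ (_, 1)
            rw [hψ]
            show y = y ^ (1 : ZMod m).val * 1
            rw [ZMod.val_one_eq_one_mod, mul_one]
            exact ((pow_mod_orderOf y 1).trans (pow_one y)).symm)), MulEquiv.symm_apply_apply]
      · rw [if_neg hac]
        split_ifs with h1 h2
        · refine absurd ?_ hac
          have := hkey y a hy h1 h2
          rw [Subgroup.mem_centralizer_singleton_iff]
          rw [mul_assoc, inv_mul_eq_iff_eq_mul] at this
          exact this.symm
        all_goals rfl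
    rw [Finset.sum_congr rfl fun a _ => hset a, ← Finset.sum_filter, Finset.sum_const, nsmul_eq_mul]
    refine mul_ne_zero ?_ (NeZero.ne _)
    rw [ne_eq, CharP.cast_eq_zero_iff k p]
    have hbij : (Finset.univ.filter fun a : G ⧸ S => rep S a ∈ C).card = (S.subgroupOf C).index := by
      rw [Subgroup.index, ← Nat.card_eq_fintype_card (α := (Finset.univ.filter fun a : G ⧸ S => rep S a ∈ C)) |>.trans
        (Fintype.card_coe _)]
      refine (Nat.card_eq_of_bijective
        (fun z : ↥C ⧸ S.subgroupOf C => Quotient.liftOn' z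
          (fun c => (⟨QuotientGroup.mk (c : G), Finset.mem_filter.2 ⟨Finset.mem_univ _, ?_⟩⟩ :
            (Finset.univ.filter fun a : G ⧸ S => rep S a ∈ C))) ?_) ⟨?_, ?_⟩).symm
      · have h1 : (c : G)⁻¹ * rep S (QuotientGroup.mk (c : G)) ∈ S := QuotientGroup.eq.1 (mk_rep S _).symm
        have := mul_mem c.2 (hSC h1)
        rwa [mul_inv_cancel_left] at this
      · intro c d e
        apply Subtype.ext
        exact QuotientGroup.eq.2 (Subgroup.mem_subgroupOf.1 (QuotientGroup.leftRel_apply.1 e))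
      · intro z w
        induction z using Quotient.inductionOn' with
        | h c => induction w using Quotient.inductionOn' with
          | h d =>
            intro e
            exact Quotient.sound' (QuotientGroup.leftRel_apply.2
              (Subgroup.mem_subgroupOf.2 (QuotientGroup.eq.1 (congrArg Subtype.val e))))
      · rintro ⟨a, ha⟩
        exact ⟨QuotientGroup.mk ⟨rep S a, (Finset.mem_filter.1 ha).2⟩, Subtype.ext (mk_rep S a)⟩
    rw [hbij]
    intro hd
    refine P.not_dvd_index (hd.trans (Subgroup.index_dvd_of_le fun x hx => ?_))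
    exact ⟨(1, ⟨x, hx⟩), by rw [hψ, map_one, one_mul]; rfl⟩

omit [IsAlgClosed k] in
theorem matrix_symm_functional {n : Type*} [Fintype n] [DecidableEq n] (t : Matrix n n k →ₗ[k] k)
    (ht : ∀ a b, t (a * b) = t (b * a)) (o : n) (M : Matrix n n k) :
    t M = t (Matrix.single o o 1) * Matrix.trace M := by
  have hE : ∀ a b, t (Matrix.single a b (1 : k)) = if a = b then t (Matrix.single o o 1) else 0 := by
    intro a b
    have e1 : Matrix.single a b (1 : k) = Matrix.single a o 1 * Matrix.single o b 1 := by simp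
    rw [e1, ht]
    split_ifs with h
    · subst h; simp
    · simp [Ne.symm h]
  conv_lhs => rw [matrix_eq_sum_single M]
  simp only [map_sum, Matrix.trace, Matrix.diag, Finset.mul_sum]
  refine Finset.sum_congr rfl fun a _ => ?_
  rw [Finset.sum_eq_single a]
  · rw [show Matrix.single a a (M a a) = M a a • Matrix.single a a (1 : k) by simp, map_smul, hE, if_pos rfl,
      smul_eq_mul, mul_comm]
  · intro b _ hb
    rw [show Matrix.single a b (M a b) = M a b • Matrix.single a b (1 : k) by simp, map_smul, hE,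
      if_neg (Ne.symm hb), smul_zero]
  · intro h; exact absurd (Finset.mem_univ _) h

/-- A trace of a representation is a combination of the traces of the matrix factors. -/
theorem trace_eq_sum [Finite G] {ι : Type} [Fintype ι] [DecidableEq ι] (d : ι → ℕ) [∀ i, NeZero (d i)]
    (π : MonoidAlgebra k G →ₐ[k] ((i : ι) → Matrix (Fin (d i)) (Fin (d i)) k))
    (hπ : Function.Surjective π) (hker : ∀ x, π x = 0 → IsNilpotent x)
    {X : Type*} [Fintype X] [DecidableEq X] (ρ : G →* Matrix X X k) :
    ∃ f : ι → k, ∀ g, Matrix.trace (ρ g) = ∑ i, f i * Matrix.trace (π (single g 1) i) := by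
  let R : MonoidAlgebra k G →ₐ[k] Matrix X X k := MonoidAlgebra.lift k (Matrix X X k) G ρ
  let t : MonoidAlgebra k G →ₗ[k] k := (Matrix.traceLinearMap X k k).comp R.toLinearMap
  obtain ⟨s, hs⟩ := LinearMap.exists_rightInverse_of_surjective π.toLinearMap
    (LinearMap.range_eq_top.2 hπ)
  have hs' : ∀ b, π (s b) = b := fun b => LinearMap.congr_fun hs b
  have hzero : ∀ x, π x = 0 → t x = 0 := fun x hx =>
    (Matrix.isNilpotent_trace_of_isNilpotent ((hker x hx).map R)).eq_zero
  have hdesc : ∀ x, t x = t (s (π x)) := fun x => by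
    rw [← sub_eq_zero, ← map_sub]
    exact hzero _ (by rw [map_sub, hs', sub_self])
  let t' : ((i : ι) → Matrix (Fin (d i)) (Fin (d i)) k) →ₗ[k] k := t.comp s
  have hsym : ∀ b c, t' (b * c) = t' (c * b) := by
    intro b c
    show t (s (b * c)) = t (s (c * b))
    rw [show b * c = π (s b * s c) by rw [map_mul, hs', hs'],
      show c * b = π (s c * s b) by rw [map_mul, hs', hs'], ← hdesc, ← hdesc]
    show Matrix.trace (R (s b * s c)) = Matrix.trace (R (s c * s b))
    rw [map_mul, map_mul, Matrix.trace_mul_comm]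
  let inj : (i : ι) → Matrix (Fin (d i)) (Fin (d i)) k →ₗ[k] ((j : ι) → Matrix (Fin (d j)) (Fin (d j)) k) :=
    fun i => LinearMap.single k (fun j => Matrix (Fin (d j)) (Fin (d j)) k) i
  refine ⟨fun i => t' (inj i (Matrix.single 0 0 1)), fun g => ?_⟩
  have hg : Matrix.trace (ρ g) = t' (π (single g 1)) := by
    show _ = t (s (π (single g 1)))
    rw [← hdesc]
    show _ = Matrix.trace (R (single g 1))
    simp [R]
  rw [hg]
  conv_lhs => rw [← Finset.univ_sum_single (π (single g 1))]
  rw [map_sum]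
  refine Finset.sum_congr rfl fun i _ => ?_
  refine matrix_symm_functional (t'.comp (inj i)) (fun a b => ?_) 0 _
  have h1 := hsym (inj i a) (inj i b)
  simp only [inj, LinearMap.coe_single, ← Pi.single_mul] at h1
  exact h1

/-- **Brauer's theorem**: the matrix factors are as many as the classes of `p`-regular elements. -/
theorem card_regClass [Finite G] {ι : Type} [Fintype ι] (d : ι → ℕ) [∀ i, NeZero (d i)]
    (π : MonoidAlgebra k G →ₐ[k] ((i : ι) → Matrix (Fin (d i)) (Fin (d i)) k))
    (hπ : Function.Surjective π) (hker : ∀ x, π x = 0 → IsNilpotent x) :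
    Nat.card (RegClass p G) = Fintype.card ι := by
  classical
  cases nonempty_fintype G
  let el : RegClass p G → G := fun c => c.2.choose
  have hel : ∀ c, ConjClasses.mk (el c) = c.1 ∧ ¬ p ∣ orderOf (el c) := fun c => c.2.choose_spec
  let τ : (i : ι) → (G →* Matrix (Fin (d i)) (Fin (d i)) k) := fun i =>
    ((Pi.evalRingHom _ i).toMonoidHom).comp (π.toMonoidHom.comp (MonoidAlgebra.of k G))
  have hτ : ∀ i g, τ i g = π (single g 1) i := fun i g => rfl
  let Φ : (ι → k) →ₗ[k] (RegClass p G → k) :=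
    { toFun := fun f c => ∑ i, f i * Matrix.trace (τ i (el c))
      map_add' := fun f g => by funext c; simp [add_mul, Finset.sum_add_distrib]
      map_smul' := fun a f => by funext c; simp [mul_assoc, Finset.mul_sum] }
  have hclass : ∀ g : G, ¬ p ∣ orderOf g → ∃ c : RegClass p G, IsConj g (el c) := by
    intro g hg
    exact ⟨⟨ConjClasses.mk g, g, rfl, hg⟩,
      ConjClasses.mk_eq_mk_iff_isConj.1 (hel ⟨ConjClasses.mk g, g, rfl, hg⟩).1.symm⟩
  have hinj : Function.Injective Φ := by
    refine (injective_iff_map_eq_zero Φ).2 fun f hf => funext fun i₀ => ?_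
    let L : MonoidAlgebra k G →ₗ[k] k := ∑ i, f i • (Matrix.traceLinearMap _ k k).comp
      ((LinearMap.proj i).comp π.toLinearMap)
    have hL : ∀ x, L x = ∑ i, f i * Matrix.trace (π x i) := fun x => by
      simp [L, LinearMap.sum_apply]
    have hL0 : ∀ x, L x = 0 := by
      intro x
      induction x using MonoidAlgebra.induction_on with
      | of g =>
        obtain ⟨u, v, e, hc, ⟨n, hu⟩, hv⟩ := exists_regular_part (p := p) g
        obtain ⟨c, hcv⟩ := hclass v hv
        rw [hL]
        refine Eq.trans ?_ (congrFun hf c)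
        show ∑ i, f i * Matrix.trace (τ i g) = ∑ i, f i * Matrix.trace (τ i (el c))
        refine Finset.sum_congr rfl fun i _ => ?_
        rw [trace_regular_part (p := p) (τ i) e hc hu, trace_conj (τ i) hcv]
      | add a b ha hb => rw [map_add, ha, hb, add_zero]
      | smul r a ha => rw [map_smul, ha, smul_zero]
    obtain ⟨x, hx⟩ := hπ (Pi.single i₀ (Matrix.single 0 0 1))
    have := hL0 x
    rw [hL, hx, Finset.sum_eq_single i₀] at this
    · simpa using this
    · intro i _ hi; simp [Pi.single_eq_of_ne hi]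
    · intro h; exact absurd (Finset.mem_univ _) h
  have hsurj : Function.Surjective Φ := by
    rw [← LinearMap.range_eq_top, eq_top_iff]
    intro φ _
    rw [← Finset.univ_sum_single φ]
    refine Submodule.sum_mem _ fun c₀ _ => ?_
    obtain ⟨S, a, lam, hind⟩ := exists_indicator (k := k) (p := p) (el c₀) (hel c₀).2
    obtain ⟨h0, hne⟩ := hind
    choose f hf using fun j => trace_eq_sum d π hπ hker (monoHom S (lam j))
    set N := ∑ j, a j * Matrix.trace (monoHom S (lam j) (el c₀)) with hN
    refine ⟨(φ c₀ / N) • (∑ j, a j • f j), ?_⟩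
    funext c
    show ∑ i, ((φ c₀ / N) • (∑ j, a j • f j)) i * Matrix.trace (τ i (el c)) = _
    have e : ∑ i, ((φ c₀ / N) • (∑ j, a j • f j)) i * Matrix.trace (τ i (el c)) =
        φ c₀ / N * ∑ j, a j * Matrix.trace (monoHom S (lam j) (el c)) := by
      simp only [hf, Pi.smul_apply, Finset.sum_apply, smul_eq_mul, Finset.mul_sum, Finset.sum_mul, hτ]
      rw [Finset.sum_comm]
      exact Finset.sum_congr rfl fun j _ => Finset.sum_congr rfl fun i _ => by ring
    rw [e]
    by_cases hcc : c = c₀
    · subst hcc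
      rw [Pi.single_eq_same]
      exact div_mul_cancel₀ _ hne
    · rw [Pi.single_eq_of_ne hcc, h0 _ (hel c).2, mul_zero]
      intro hconj
      refine hcc (Subtype.ext ?_)
      rw [← (hel c).1, ← (hel c₀).1]
      exact ConjClasses.mk_eq_mk_iff_isConj.2 hconj
  have h := (LinearEquiv.ofBijective Φ ⟨hinj, hsurj⟩).finrank_eq
  rw [Module.finrank_pi, Module.finrank_pi] at h
  rw [Nat.card_eq_fintype_card, h]

/-- The matrix factors of the group algebra exist. -/
theorem exists_factors [Finite G] : ∃ (m : ℕ) (d : Fin m → ℕ),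
    (∀ i, NeZero (d i)) ∧ ∃ π : MonoidAlgebra k G →ₐ[k] ((i : Fin m) → Matrix (Fin (d i)) (Fin (d i)) k),
      Function.Surjective π ∧ ∀ x, π x = 0 → IsNilpotent x := by
  set A := MonoidAlgebra k G
  haveI : FiniteDimensional k A := inferInstance
  haveI : IsArtinianRing A := IsArtinianRing.of_finite k A
  set J := Ring.jacobson A with hJ
  obtain ⟨N, hN⟩ := IsSemiprimaryRing.isNilpotent (R := A)
  haveI : IsSemisimpleRing (A ⧸ J) := IsSemiprimaryRing.isSemisimpleRing
  haveI : FiniteDimensional k (A ⧸ J) := Module.Finite.of_surjective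
    (Ideal.Quotient.mkₐ k J).toLinearMap Ideal.Quotient.mk_surjective
  obtain ⟨m, d, hd, ⟨E⟩⟩ := IsSemisimpleRing.exists_algEquiv_pi_matrix_of_isAlgClosed k (A ⧸ J)
  refine ⟨m, d, hd, E.toAlgHom.comp (Ideal.Quotient.mkₐ k J),
    E.surjective.comp Ideal.Quotient.mk_surjective, fun x hx => ⟨N, ?_⟩⟩
  have hxJ : x ∈ J := by
    have : E (Ideal.Quotient.mk J x) = 0 := hx
    rwa [map_eq_zero_iff _ E.injective, Ideal.Quotient.eq_zero_iff_mem] at this
  have h2 : x ^ N ∈ Ring.jacobson A ^ N := Ideal.pow_mem_pow hxJ N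
  rw [hN] at h2
  simpa using h2

end Cfsg.Agent.Lib.RegularCount
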