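import Mathlib
import Cfsg.Agent.Lib.SteinbergBlock.ChevData

/-!
# Cell sums on the vectors fixed by the unipotent radical of a Borel subgroup

For a representation of a Chevalley group and a vector fixed by `U`, the sum of the translates over the
cosets in `U g U` is again fixed by `U`; at a fundamental reflection it is the operator `hat X * n`.
-/

set_option autoImplicit false

namespace Cfsg.Agent.Lib.RegularCount

open Cfsg.Lie
open Cfsg.Agent.Lib.Chev
open Cfsg.Agent.Lib.SteinbergBlock (inG xG nG hG rank_one X_le_U)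
open scoped Classical

universe u v w

variable {D : ChevalleyDatum} {C : Cert} {F : Type u} [Field F]

/-- `U` inside the group. -/
abbrev UG (D : ChevalleyDatum) (F : Type u) [Field F] : Subgroup ↥(D.group F) := inG (D.posUnipotent F)

/-- The diagonal subgroup inside the group. -/
abbrev TG (D : ChevalleyDatum) (F : Type u) [Field F] : Subgroup ↥(D.group F) := inG (D.diagonalSubgroup F)

/-- `U⁻` inside the group. -/
abbrev VG (D : ChevalleyDatum) (F : Type u) [Field F] : Subgroup ↥(D.group F) := inG (D.negUnipotent F)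

variable (hh : Rooted D C)

/-- A fundamental root element. -/
noncomputable def xI (i : Fin D.rank) (t : F) : ↥(D.group F) := xG hh (hh.toChecked.simple_lt i.2) t

/-- A fundamental reflection. -/
noncomputable def nI (i : Fin D.rank) : ↥(D.group F) := nG hh ⟨i.1, i.2⟩

/-- The coroot of a fundamental root. -/
noncomputable def hI (i : Fin D.rank) : Fˣ →* ↥(D.group F) := hG hh ⟨i.1, i.2⟩

/-- A word in the fundamental reflections. -/
noncomputable def wG (L : List ℕ) : ↥(D.group F) :=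
  if hL : IsWord D L then ⟨nProd hh.toChecked F L, hh.monomial_le_group (hh.nProd_mem_monomial hL)⟩ else 1

theorem wG_val {L : List ℕ} (hL : IsWord D L) :
    ((wG hh L : ↥(D.group F)) : GL D.Idx F) = nProd hh.toChecked F L := by
  rw [wG, dif_pos hL]

theorem isWord_nil : IsWord D ([] : List ℕ) := by simp [IsWord]

theorem isWord_cons {i : ℕ} (hi : i < D.rank) {L : List ℕ} (hL : IsWord D L) : IsWord D (i :: L) :=
  fun a ha => (List.mem_cons.1 ha).elim (fun e => e ▸ hi) (hL a)

theorem wG_nil : (wG hh [] : ↥(D.group F)) = 1 :=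
  Subtype.ext (by rw [wG_val hh isWord_nil]; simp [nProd])

theorem wG_cons (i : Fin D.rank) {L : List ℕ} (hL : IsWord D L) :
    (wG hh (i.1 :: L) : ↥(D.group F)) = nI hh i * wG hh L :=
  Subtype.ext (by rw [Subgroup.coe_mul, wG_val hh (isWord_cons i.2 hL), wG_val hh hL, nProd_cons]; rfl)

theorem wG_append {L L' : List ℕ} (hL : IsWord D L) (hL' : IsWord D L') :
    (wG hh (L ++ L') : ↥(D.group F)) = wG hh L * wG hh L' :=
  Subtype.ext (by
    rw [Subgroup.coe_mul, wG_val hh (hL.append hL'), wG_val hh hL, wG_val hh hL', nProd_append])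

theorem wperm_reverse {L : List ℕ} (hL : IsWord D L) :
    wperm hh.toChecked L.reverse = (wperm hh.toChecked L)⁻¹ := by
  have h := hh.toChecked
  refine eq_inv_of_mul_eq_one_left ?_
  ext r
  rw [Equiv.Perm.mul_apply, h.wperm_val hL.reverse, h.wperm_val hL, h.perm_reverse hL r.2]
  rfl

theorem tI_mem (i : Fin D.rank) (c : Fˣ) : hI hh i c ∈ TG D F := SteinbergBlock.torusHom_mem hh _

include hh in
theorem mem_inG_borel {u : ↥(D.group F)} (hu : u ∈ UG D F) : (u : GL D.Idx F) ∈ D.borelSubgroup F :=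
  Subgroup.mem_sup_left hu

include hh in
theorem torus_conj_U {t : ↥(D.group F)} (ht : t ∈ TG D F) {u : ↥(D.group F)} (hu : u ∈ UG D F) :
    t * u * t⁻¹ ∈ UG D F :=
  (Subgroup.mem_normalizer_iff.1 (hh.diagonal_le_normalizer_posUnipotent ht) _).1 hu

include hh in
theorem torus_conj_U' {t : ↥(D.group F)} (ht : t ∈ TG D F) {u : ↥(D.group F)} (hu : u ∈ UG D F) :
    t⁻¹ * u * t ∈ UG D F := by
  simpa using torus_conj_U hh (inv_mem ht) hu

theorem xI_mem (i : Fin D.rank) (t : F) : xI hh i t ∈ UG D F :=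
  hh.toChecked.xGL_mem_pos (hh.toChecked.simple_lt i.2) (hh.toChecked.simple_spec i.2).2 t

theorem xI_add (i : Fin D.rank) (s t : F) : xI hh i s * xI hh i t = xI hh i (s + t) :=
  Subtype.ext (Units.ext (hh.toChecked.x_add (hh.toChecked.simple_lt i.2) s t))

theorem xI_zero (i : Fin D.rank) : xI hh i (0 : F) = 1 :=
  Subtype.ext (Units.ext (hh.toChecked.x_zero (hh.toChecked.simple_lt i.2)))

theorem xI_inv (i : Fin D.rank) (t : F) : (xI hh i t)⁻¹ = xI hh i (-t) :=
  inv_eq_of_mul_eq_one_right (by rw [xI_add, add_neg_cancel, xI_zero])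

theorem xI_injective (i : Fin D.rank) : Function.Injective (xI hh i : F → ↥(D.group F)) :=
  SteinbergBlock.xG_injective hh _

theorem nI_sq_mem (i : Fin D.rank) : (nI hh i * nI hh i : ↥(D.group F)) ∈ TG D F := hh.nS_sq i.2

theorem nI_sq (i : Fin D.rank) : (nI hh i * nI hh i : ↥(D.group F)) = (hI hh i (-1))⁻¹ := by
  refine eq_inv_of_mul_eq_one_left (Subtype.ext (Units.ext ?_))
  have h := hh.toChecked
  show ((nS h F i.1 * nS h F i.1 * torusHom D F (Pi.mulSingle i.1 (-1)) : GL D.Idx F) :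
    Matrix D.Idx D.Idx F) = 1
  rw [Units.val_mul, Units.val_mul, coe_nS _ i.2, ← hh.hMat_simple_torus i.2 (-1), Units.val_neg,
    Units.val_one, h.hMat_eq_mul, mul_assoc, ← mul_assoc (D.nMat F _ 1) (D.nMat F _ (-1)),
    h.nMat_mul_nMat_neg (h.simple_lt i.2), one_mul, h.nMat_mul_nMat_neg (h.simple_lt i.2)]

theorem rank_oneI (i : Fin D.rank) (t : Fˣ) :
    ∃ u : Fˣ, (u : F) = -((eta C i.1 (D.simple i.1) : F) * (t : F))⁻¹ ∧
      nI hh i * xI hh i (t : F) * nI hh i =
        xI hh i (-(u : F)) * hI hh i u * nI hh i * xI hh i (-(u : F)) * (nI hh i * nI hh i) :=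
  rank_one hh ⟨i.1, i.2⟩ t

include hh in
theorem rad_U {g : GL D.Idx F} (i : Fin D.rank) (hg : g ∈ rootGen D F (posSet D \ {D.simple i.1})) :
    g ∈ D.posUnipotent F := by
  rw [hh.toChecked.posUnipotent_eq]
  exact rootGen_mono Set.sdiff_subset hg

/-- `U = R X` for the fundamental root subgroup `X`. -/
theorem exists_split_simple (i : Fin D.rank) {g : ↥(D.group F)} (hg : g ∈ UG D F) :
    ∃ (r : ↥(D.group F)) (a : F), (r : GL D.Idx F) ∈ rootGen D F (posSet D \ {D.simple i.1}) ∧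
      g = r * xI hh i a := by
  have h := hh.toChecked
  obtain ⟨a, ha, b, hb, e'⟩ := h.exists_split (F := F) {D.simple i.1} hg
  have e : (g : GL D.Idx F) = a * b := e'
  clear e'
  have hb' : b ∈ D.rootSubgroup F (D.simple i.1) := by
    rw [← SteinbergBlock.rootGen_singleton]; exact rootGen_mono Set.inter_subset_right hb
  obtain ⟨c, rfl⟩ := (h.rootSubgroup_mem_iff (h.simple_lt i.2)).1 hb'
  refine ⟨g * (xI hh i c)⁻¹, c, ?_, by group⟩
  have : ((g * (xI hh i c)⁻¹ : ↥(D.group F)) : GL D.Idx F) = a := by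
    rw [Subgroup.coe_mul, e, Subgroup.coe_inv]
    exact mul_inv_cancel_right a _
  rwa [this]

theorem nI_conj_rad (i : Fin D.rank) {r : ↥(D.group F)}
    (hr : (r : GL D.Idx F) ∈ rootGen D F (posSet D \ {D.simple i.1})) :
    ((nI hh i * r * (nI hh i)⁻¹ : ↥(D.group F)) : GL D.Idx F) ∈ rootGen D F (posSet D \ {D.simple i.1}) :=
  hh.nS_conj_simple_sdiff i.2 hr

theorem nI_inv_conj_rad (i : Fin D.rank) {r : ↥(D.group F)}
    (hr : (r : GL D.Idx F) ∈ rootGen D F (posSet D \ {D.simple i.1})) :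
    (((nI hh i)⁻¹ * r * nI hh i : ↥(D.group F)) : GL D.Idx F) ∈ rootGen D F (posSet D \ {D.simple i.1}) := by
  have h1 := nI_conj_rad hh i hr
  have h2 := (Subgroup.mem_normalizer_iff.1 (hh.diagonal_le_normalizer
    (S := posSet D \ {D.simple i.1}) (fun r hr => hr.1.2) (inv_mem (nI_sq_mem (F := F) hh i))) _).1 h1
  convert h2 using 1
  simp only [Subgroup.coe_subtype, Subgroup.coe_mul, Subgroup.coe_inv]
  group

theorem rad_conj_xI (i : Fin D.rank) (t : F) {r : ↥(D.group F)}
    (hr : (r : GL D.Idx F) ∈ rootGen D F (posSet D \ {D.simple i.1})) :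
    ((xI hh i t * r * (xI hh i t)⁻¹ : ↥(D.group F)) : GL D.Idx F) ∈
      rootGen D F (posSet D \ {D.simple i.1}) :=
  (Subgroup.mem_normalizer_iff.1 ((hh.simple_sdiff i.2).1 (Subgroup.mem_sup_left
    ((hh.toChecked.rootSubgroup_mem_iff (hh.toChecked.simple_lt i.2)).2 ⟨t, rfl⟩))) _).1 hr

/-- An ascending word moves the fundamental root group into `U`. -/
theorem conj_xI_of_asc (i : Fin D.rank) {L : List ℕ} (hL : IsWord D L)
    (ha : D.nroots / 2 ≤ perm C L.reverse (D.simple i.1)) (t : F) :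
    (wG hh L)⁻¹ * xI hh i t * wG hh L ∈ UG D F := by
  have h := hh.toChecked
  rw [Subgroup.mem_subgroupOf, Subgroup.coe_mul, Subgroup.coe_mul, Subgroup.coe_inv, wG_val hh hL]
  show (nProd h F L)⁻¹ * xGL h F (h.simple_lt i.2) t * nProd h F L ∈ _
  rw [mul_assoc, h.x_mul_nProd hL (h.simple_lt i.2), inv_mul_cancel_left]
  exact h.xGL_mem_pos _ ha _

theorem sigma_ne_one (i : Fin D.rank) : sigma hh.toChecked i.1 ≠ 1 := by
  intro e
  have h := hh.toChecked
  have h1 := h.sigma_sroot i.2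
  rw [e, Equiv.Perm.one_apply] at h1
  have h2 := h.sroot_pos i.2
  rw [h1, h.ngFin_pos] at h2
  exact h2 (h.sroot_pos i.2)

/-- An ascending step changes the cell. -/
theorem nI_mul_borel_mul_wG (i : Fin D.rank) {L : List ℕ} (hL : IsWord D L)
    (ha : D.nroots / 2 ≤ perm C L.reverse (D.simple i.1)) {b : ↥(D.group F)}
    (hb : (b : GL D.Idx F) ∈ D.borelSubgroup F) :
    ((nI hh i * b * wG hh L : ↥(D.group F)) : GL D.Idx F) ∈
      bcell hh.toChecked F (wperm hh.toChecked (i.1 :: L)) := by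
  have h := hh.toChecked
  obtain ⟨u, hu, t, ht, e⟩ := hh.mem_borel_iff.1 hb
  have huG : u ∈ D.group F := h.posUnipotent_le_group hu
  obtain ⟨r, a, hr, eu⟩ := exists_split_simple hh i (g := (⟨u, huG⟩ : ↥(D.group F))) hu
  obtain ⟨t', ht', et⟩ := hh.diag_mul_nProd hL ht
  have eu' : u = (r : GL D.Idx F) * (xI hh i a : ↥(D.group F)) := congrArg Subtype.val eu
  have h1 := conj_xI_of_asc hh i hL ha a
  rw [Subgroup.mem_subgroupOf, Subgroup.coe_mul, Subgroup.coe_mul, Subgroup.coe_inv, wG_val hh hL] at h1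
  rw [Subgroup.coe_mul, Subgroup.coe_mul, wG_val hh hL, e, eu']
  have hm : nS h F i.1 * nProd h F L ∈ bcell h F (wperm h (i.1 :: L)) := by
    have := hh.nProd_mem_bcell (F := F) (isWord_cons i.2 hL)
    rwa [nProd_cons] at this
  have h3 := bcell_mul_mem (h := h) (Subgroup.mem_sup_left (rad_U hh i (nI_conj_rad hh i hr))) hm
    (mul_mem (Subgroup.mem_sup_left h1) (Subgroup.mem_sup_right ht') :
      ((nProd h F L)⁻¹ * (xI hh i a : ↥(D.group F)) * nProd h F L) * t' ∈ D.borelSubgroup F)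
  convert h3 using 1
  simp only [Subgroup.coe_mul, Subgroup.coe_inv]
  show nS h F i.1 * ((r : GL D.Idx F) * (xI hh i a : ↥(D.group F)) * t) * nProd h F L = _
  rw [show nS h F i.1 * ((r : GL D.Idx F) * (xI hh i a : ↥(D.group F)) * t) * nProd h F L =
    nS h F i.1 * (r : GL D.Idx F) * (xI hh i a : ↥(D.group F)) * (t * nProd h F L) by group, et]
  show _ = nS h F i.1 * (r : GL D.Idx F) * (nS h F i.1)⁻¹ * (nS h F i.1 * nProd h F L) * _
  group

variable [Fintype F] {k : Type v} [Field k] {M : Type w} [AddCommGroup M] [Module k M]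
variable (ρ : Representation k ↥(D.group F) M)

/-- Fixed by `U`. -/
def UFix (v : M) : Prop := ∀ u ∈ UG D F, ρ u v = v

theorem rep_mul (g g' : ↥(D.group F)) (v : M) : ρ (g * g') v = ρ g (ρ g' v) := by
  rw [map_mul]; rfl

theorem UFix.smul {v : M} (hv : UFix ρ v) (c : k) : UFix ρ (c • v) := fun u hu => by
  rw [map_smul, hv u hu]

variable {ρ} in
include hh in
theorem UFix.torus {v : M} (hv : UFix ρ v) {t : ↥(D.group F)} (ht : t ∈ TG D F) : UFix ρ (ρ t v) :=
  fun u hu => by
    rw [← rep_mul, show u * t = t * (t⁻¹ * u * t) by group, rep_mul, hv _ (torus_conj_U' hh ht hu)]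

variable {ρ} in
theorem UFix.apply_eq {v : M} (hv : UFix ρ v) {g g' : ↥(D.group F)}
    (e : (QuotientGroup.mk g : ↥(D.group F) ⧸ UG D F) = QuotientGroup.mk g') : ρ g v = ρ g' v := by
  rw [show g' = g * (g⁻¹ * g') by group, rep_mul, hv _ (QuotientGroup.eq.1 e)]

/-- The cosets in `U g U`. -/
noncomputable def cosets (g : ↥(D.group F)) : Finset (↥(D.group F) ⧸ UG D F) :=
  letI := Fintype.ofFinite ↥(UG D F)
  Finset.univ.image fun u : ↥(UG D F) => QuotientGroup.mk ((u : ↥(D.group F)) * g)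

theorem mem_cosets {g : ↥(D.group F)} {q : ↥(D.group F) ⧸ UG D F} :
    q ∈ cosets g ↔ ∃ u ∈ UG D F, q = QuotientGroup.mk (u * g) := by
  simp [cosets, eq_comm, Subtype.exists]

/-- The sum over the cosets in `U g U`. -/
noncomputable def cellSum (g : ↥(D.group F)) : M →ₗ[k] M := ∑ q ∈ cosets g, ρ q.out

theorem cellSum_apply (g : ↥(D.group F)) (v : M) : cellSum ρ g v = ∑ q ∈ cosets g, ρ q.out v :=
  LinearMap.sum_apply _ _ _

theorem cellSum_one {v : M} (hv : UFix ρ v) : cellSum ρ 1 v = v := by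
  have e : cosets (1 : ↥(D.group F)) = {((1 : ↥(D.group F)) : ↥(D.group F) ⧸ UG D F)} := by
    ext q
    rw [mem_cosets, Finset.mem_singleton]
    constructor
    · rintro ⟨u, hu, rfl⟩
      exact QuotientGroup.eq.2 (by simpa using inv_mem hu)
    · rintro rfl
      exact ⟨1, one_mem _, by simp⟩
  rw [cellSum_apply, e, Finset.sum_singleton, hv.apply_eq (QuotientGroup.out_eq' _), map_one]
  rfl

variable {ρ}

theorem UFix.cellSum {v : M} (hv : UFix ρ v) (g : ↥(D.group F)) : UFix ρ (cellSum ρ g v) := by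
  intro u hu
  rw [cellSum_apply, map_sum]
  refine Finset.sum_equiv (MulAction.toPerm u) (fun q => ?_) (fun q _ => ?_)
  · simp only [MulAction.toPerm_apply, mem_cosets]
    constructor
    · rintro ⟨a, ha, rfl⟩
      exact ⟨u * a, mul_mem hu ha, by rw [MulAction.Quotient.smul_mk, smul_eq_mul, mul_assoc]⟩
    · rintro ⟨a, ha, e⟩
      refine ⟨u⁻¹ * a, mul_mem (inv_mem hu) ha, ?_⟩
      rw [← inv_smul_smul u q, e, MulAction.Quotient.smul_mk, smul_eq_mul, mul_assoc]
  · rw [← rep_mul]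
    refine hv.apply_eq ?_
    rw [MulAction.toPerm_apply, QuotientGroup.out_eq', ← smul_eq_mul, ← MulAction.Quotient.smul_mk,
      QuotientGroup.out_eq']

include hh in
theorem torus_cellSum {v : M} (hv : UFix ρ v) {t : ↥(D.group F)} (ht : t ∈ TG D F) (g : ↥(D.group F)) :
    ρ t (cellSum ρ g v) = cellSum ρ (t * g) v := by
  rw [cellSum_apply, cellSum_apply, map_sum]
  refine Finset.sum_equiv (MulAction.toPerm t) (fun q => ?_) (fun q _ => ?_)
  · simp only [MulAction.toPerm_apply, mem_cosets]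
    constructor
    · rintro ⟨a, ha, rfl⟩
      refine ⟨t * a * t⁻¹, torus_conj_U hh ht ha, ?_⟩
      rw [MulAction.Quotient.smul_mk, smul_eq_mul]
      congr 1
      group
    · rintro ⟨a, ha, e⟩
      refine ⟨t⁻¹ * a * t, torus_conj_U' hh ht ha, ?_⟩
      rw [← inv_smul_smul t q, e, MulAction.Quotient.smul_mk, smul_eq_mul]
      congr 1
      group
  · rw [← rep_mul]
    refine hv.apply_eq ?_
    rw [MulAction.toPerm_apply, QuotientGroup.out_eq', ← smul_eq_mul, ← MulAction.Quotient.smul_mk,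
      QuotientGroup.out_eq']

include hh in
theorem cellSum_mul_torus {v : M} (hv : UFix ρ v) {t : ↥(D.group F)} (ht : t ∈ TG D F) (g : ↥(D.group F)) :
    cellSum ρ (g * t) v = cellSum ρ g (ρ t v) := by
  rw [cellSum_apply, cellSum_apply]
  have hr : ∀ {a b : ↥(D.group F)}, (QuotientGroup.mk a : ↥(D.group F) ⧸ UG D F) = QuotientGroup.mk b →
      ∀ {s : ↥(D.group F)}, s ∈ TG D F → (QuotientGroup.mk (a * s) : ↥(D.group F) ⧸ UG D F) =
        QuotientGroup.mk (b * s) := fun {a b} e {s} hs => QuotientGroup.eq.2 (by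
    rw [show (a * s)⁻¹ * (b * s) = s⁻¹ * (a⁻¹ * b) * s by group]
    exact torus_conj_U' hh hs (QuotientGroup.eq.1 e))
  symm
  refine Finset.sum_bij' (fun q _ => QuotientGroup.mk (q.out * t)) (fun q _ => QuotientGroup.mk (q.out * t⁻¹))
    ?_ ?_ ?_ ?_ ?_
  · intro q hq
    obtain ⟨a, ha, e⟩ := mem_cosets.1 hq
    exact mem_cosets.2 ⟨a, ha, by rw [← mul_assoc]; exact hr ((QuotientGroup.out_eq' q).trans e) ht⟩
  · intro q hq
    obtain ⟨a, ha, e⟩ := mem_cosets.1 hq
    refine mem_cosets.2 ⟨a, ha, (hr ((QuotientGroup.out_eq' q).trans e) (inv_mem ht)).trans ?_⟩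
    congr 1
    group
  · intro q _
    show (QuotientGroup.mk ((QuotientGroup.mk (q.out * t) : ↥(D.group F) ⧸ UG D F).out * t⁻¹) :
      ↥(D.group F) ⧸ UG D F) = q
    rw [hr (QuotientGroup.out_eq' _) (inv_mem ht), mul_inv_cancel_right, QuotientGroup.out_eq']
  · intro q _
    show (QuotientGroup.mk ((QuotientGroup.mk (q.out * t⁻¹) : ↥(D.group F) ⧸ UG D F).out * t) :
      ↥(D.group F) ⧸ UG D F) = q
    rw [hr (QuotientGroup.out_eq' _) ht, inv_mul_cancel_right, QuotientGroup.out_eq']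
  · intro q _
    rw [← rep_mul]
    exact hv.apply_eq (QuotientGroup.out_eq' _).symm

variable (ρ) in
/-- The operator of a fundamental reflection. -/
noncomputable def tau (i : Fin D.rank) : M →ₗ[k] M := ∑ t : F, ρ (xI hh i t * nI hh i)

theorem tau_apply (i : Fin D.rank) (v : M) :
    tau hh ρ i v = ∑ t : F, ρ (xI hh i t * nI hh i) v := LinearMap.sum_apply _ _ _

/-- The product formula at an ascending step. -/
theorem tau_cellSum {v : M} (hv : UFix ρ v) (i : Fin D.rank) {L : List ℕ} (hL : IsWord D L)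
    (ha : D.nroots / 2 ≤ perm C L.reverse (D.simple i.1)) :
    tau hh ρ i (cellSum ρ (wG hh L) v) = cellSum ρ (wG hh (i.1 :: L)) v := by
  rw [tau_apply, cellSum_apply, cellSum_apply, wG_cons hh i hL]
  simp only [map_sum, ← rep_mul]
  rw [← Finset.sum_product']
  set n : ↥(D.group F) := nI hh i with hn
  set g : ↥(D.group F) := wG hh L with hgdef
  refine Finset.sum_bij (fun z _ => QuotientGroup.mk (xI hh i z.1 * n * z.2.out)) ?_ ?_ ?_ ?_
  · rintro ⟨t, q⟩ hz
    obtain ⟨a, ha', e⟩ := mem_cosets.1 (Finset.mem_product.1 hz).2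
    obtain ⟨r, s, hr, rfl⟩ := exists_split_simple hh i ha'
    refine mem_cosets.2 ⟨xI hh i t * (n * r * n⁻¹), mul_mem (xI_mem hh i t)
      (rad_U hh i (nI_conj_rad hh i hr)), ?_⟩
    show (QuotientGroup.mk (xI hh i t * n * q.out) : ↥(D.group F) ⧸ UG D F) = _
    have e' : q.out⁻¹ * (r * xI hh i s * g) ∈ UG D F := QuotientGroup.eq.1 ((QuotientGroup.out_eq' q).trans e)
    refine QuotientGroup.eq.2 ?_
    have := mul_mem e' (inv_mem (conj_xI_of_asc hh i hL ha s))
    convert this using 1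
    rw [← hgdef]
    group
  · rintro ⟨t, q⟩ hz ⟨t', q'⟩ hz' e
    obtain ⟨a, ha', eq⟩ := mem_cosets.1 (Finset.mem_product.1 hz).2
    obtain ⟨a', ha'', eq'⟩ := mem_cosets.1 (Finset.mem_product.1 hz').2
    by_cases htt : t = t'
    · subst htt
      have h1 : (QuotientGroup.mk q.out : ↥(D.group F) ⧸ UG D F) = QuotientGroup.mk q'.out := by
        refine QuotientGroup.eq.2 ?_
        convert QuotientGroup.eq.1 e using 1
        group
      rw [QuotientGroup.out_eq', QuotientGroup.out_eq'] at h1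
      rw [h1]
    exfalso
    have e1 : (q.out : ↥(D.group F))⁻¹ * (a * g) ∈ UG D F :=
      QuotientGroup.eq.1 ((QuotientGroup.out_eq' q).trans eq)
    have e2 : (q'.out : ↥(D.group F))⁻¹ * (a' * g) ∈ UG D F :=
      QuotientGroup.eq.1 ((QuotientGroup.out_eq' q').trans eq')
    have e3 : (xI hh i t * n * q.out)⁻¹ * (xI hh i t' * n * q'.out) ∈ UG D F := QuotientGroup.eq.1 e
    -- the element `n x(d) n a' g` lies in the same cell as `n n a g`
    set d : F := -t + t'
    set c := g⁻¹ * a⁻¹ * (n⁻¹ * xI hh i d * n) * a' * g with hc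
    have hcU : c ∈ UG D F := by
      have := mul_mem (mul_mem (inv_mem e1) e3) e2
      convert this using 1
      rw [hc, show xI hh i d = (xI hh i t)⁻¹ * xI hh i t' by rw [xI_inv, xI_add]]
      group
    have hd : d ≠ 0 := fun h0 => htt (neg_add_eq_zero.1 h0)
    obtain ⟨u, -, h1⟩ := rank_oneI hh i (Units.mk0 d hd)
    simp only [Units.val_mk0] at h1
    set s : ↥(D.group F) := hI hh i u
    have key : (n⁻¹ * xI hh i d * n) =
        ((n * n)⁻¹ * xI hh i (-(u : F)) * s) * n * (xI hh i (-(u : F)) * (n * n)) := by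
      rw [show n⁻¹ * xI hh i d * n = (n * n)⁻¹ * (n * xI hh i d * n) by group, h1]
      rw [← hn]
      group
    have hB1 : (((n * n)⁻¹ * xI hh i (-(u : F)) * s : ↥(D.group F)) : GL D.Idx F) ∈ D.borelSubgroup F :=
      mul_mem (mul_mem (inv_mem (Subgroup.mem_sup_right (nI_sq_mem hh i))) (mem_inG_borel hh (xI_mem hh i _)))
        (Subgroup.mem_sup_right (tI_mem hh i u))
    have hB2 : ((xI hh i (-(u : F)) * (n * n) * a' : ↥(D.group F)) : GL D.Idx F) ∈ D.borelSubgroup F :=
      mul_mem (mul_mem (mem_inG_borel hh (xI_mem hh i _)) (Subgroup.mem_sup_right (nI_sq_mem hh i)))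
        (mem_inG_borel hh ha'')
    have hm := nI_mul_borel_mul_wG hh i hL ha hB2
    have hm2 := bcell_mul_left (h := hh.toChecked)
      (mul_mem (inv_mem (mem_inG_borel hh ha')) hB1) hm
    have hm3 : ((g * c : ↥(D.group F)) : GL D.Idx F) ∈
        bcell hh.toChecked F (wperm hh.toChecked (i.1 :: L)) := by
      convert hm2 using 1
      have : g * c = a⁻¹ * ((n * n)⁻¹ * xI hh i (-(u : F)) * s) *
          (n * (xI hh i (-(u : F)) * (n * n) * a') * g) := by
        rw [hc, key]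
        group
      rw [this]
      simp only [hn, hgdef, Subgroup.coe_mul, Subgroup.coe_inv]
    have hm4 : ((g * c : ↥(D.group F)) : GL D.Idx F) ∈ bcell hh.toChecked F (wperm hh.toChecked L) := by
      rw [Subgroup.coe_mul, wG_val hh hL]
      exact bcell_mul_right (hh.nProd_mem_bcell hL) (mem_inG_borel hh hcU)
    have h5 := hh.bcell_unique hm3 hm4
    rw [wperm_cons, mul_eq_right] at h5
    exact sigma_ne_one hh i h5
  · intro q hq
    obtain ⟨a, ha', rfl⟩ := mem_cosets.1 hq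
    obtain ⟨r, s, hr, e⟩ : ∃ (r : ↥(D.group F)) (s : F),
        (r : GL D.Idx F) ∈ rootGen D F (posSet D \ {D.simple i.1}) ∧ a = xI hh i s * r := by
      obtain ⟨r, s, hr, e⟩ := exists_split_simple hh i (inv_mem ha')
      exact ⟨r⁻¹, -s, inv_mem hr, by rw [← inv_inv a, e, mul_inv_rev, xI_inv]⟩
    refine ⟨(s, QuotientGroup.mk ((n⁻¹ * r * n) * g)), Finset.mem_product.2 ⟨Finset.mem_univ _,
      mem_cosets.2 ⟨_, rad_U hh i (nI_inv_conj_rad hh i hr), rfl⟩⟩, ?_⟩
    show (QuotientGroup.mk (xI hh i s * n * (QuotientGroup.mk _ : ↥(D.group F) ⧸ UG D F).out) :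
      ↥(D.group F) ⧸ UG D F) = _
    refine QuotientGroup.eq.2 ?_
    have := QuotientGroup.eq.1 (QuotientGroup.out_eq' (QuotientGroup.mk ((n⁻¹ * r * n) * g) :
      ↥(D.group F) ⧸ UG D F))
    convert this using 1
    rw [e]
    group
  · rintro ⟨t, q⟩ _
    exact hv.apply_eq (QuotientGroup.out_eq' _).symm

theorem UFix.tau {v : M} (hv : UFix ρ v) (i : Fin D.rank) : UFix ρ (tau hh ρ i v) := by
  have := tau_cellSum hh hv i isWord_nil (hh.toChecked.simple_spec i.2).2
  rw [wG_nil, cellSum_one ρ hv] at this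
  rw [this]
  exact hv.cellSum _

theorem torus_tau {v : M} (hv : UFix ρ v) (i : Fin D.rank) {t : ↥(D.group F)} (ht : t ∈ TG D F) :
    ρ t (tau hh ρ i v) = tau hh ρ i (ρ ((nI hh i)⁻¹ * t * nI hh i) v) := by
  have e := tau_cellSum hh hv i isWord_nil (hh.toChecked.simple_spec i.2).2
  have hc : (nI hh i)⁻¹ * t * nI hh i ∈ TG D F := by
    obtain ⟨t', ht', et⟩ := hh.diag_mul_nProd (L := [i.1]) (isWord_cons i.2 isWord_nil)
      (show (t : GL D.Idx F) ∈ D.diagonalSubgroup F from ht)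
    rw [Subgroup.mem_subgroupOf, Subgroup.coe_mul, Subgroup.coe_mul, Subgroup.coe_inv, mul_assoc]
    show (nS hh.toChecked F i.1)⁻¹ * ((t : GL D.Idx F) * nS hh.toChecked F i.1) ∈ _
    rw [nProd_singleton] at et
    rw [et, inv_mul_cancel_left]
    exact ht'
  have e2 := tau_cellSum hh (hv.torus hh hc) i isWord_nil (hh.toChecked.simple_spec i.2).2
  rw [wG_nil, cellSum_one ρ hv] at e
  rw [wG_nil, cellSum_one ρ (hv.torus hh hc)] at e2
  rw [e, e2, torus_cellSum hh hv ht, ← cellSum_mul_torus hh hv hc, wG_cons hh i isWord_nil, wG_nil, mul_one]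
  congr 1
  group

/-- The quadratic relation. -/
theorem tau_tau (p : ℕ) [Fact p.Prime] [CharP F p] [CharP k p] {v : M} (hv : UFix ρ v) (i : Fin D.rank) :
    tau hh ρ i (tau hh ρ i v) = ∑ c : Fˣ, ρ (hI hh i c) (tau hh ρ i v) := by
  set n : ↥(D.group F) := nI hh i with hn
  have hsqm : n * n ∈ TG D F := nI_sq_mem hh i
  have hTx : ∀ {s : ↥(D.group F)}, s ∈ TG D F → ∀ t : F, s⁻¹ * xI hh i t * s ∈ UG D F :=
    fun hs t => torus_conj_U' hh hs (xI_mem hh i t)
  -- expand the outer operator against each translate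
  have hterm : ∀ y : Fˣ, ∃ u : Fˣ, (u : F) = -((eta C i.1 (D.simple i.1) : F) * (y : F))⁻¹ ∧
      ∑ x : F, ρ (xI hh i x * n) (ρ (xI hh i (y : F) * n) v) =
        ρ (hI hh i u) (tau hh ρ i (ρ (n * n) v)) := by
    intro y
    obtain ⟨u, hu, h1⟩ := rank_oneI hh i y
    refine ⟨u, hu, ?_⟩
    have hs : hI hh i u ∈ TG D F := tI_mem hh i u
    have hz := hv.torus hh hsqm
    -- move the root element through the torus element
    have hval : ∀ x : F, ρ (xI hh i x * n) (ρ (xI hh i (y : F) * n) v) =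
        ρ (xI hh i (x + -(u : F)) * hI hh i u * n) (ρ (n * n) v) := by
      intro x
      rw [← rep_mul, ← rep_mul, show xI hh i x * n * (xI hh i (y : F) * n) =
        xI hh i x * (n * xI hh i (y : F) * n) by group, h1, ← xI_add,
        show xI hh i x * (xI hh i (-(u : F)) * hI hh i u * n * xI hh i (-(u : F)) * (n * n)) =
          xI hh i x * xI hh i (-(u : F)) * hI hh i u * n * (n * n) *
            ((n * n)⁻¹ * xI hh i (-(u : F)) * (n * n)) by group,
        rep_mul, hv _ (hTx hsqm _)]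
    rw [Finset.sum_congr rfl fun x _ => hval x,
      Fintype.sum_equiv (Equiv.addRight (-(u : F)))
        (fun x => ρ (xI hh i (x + -(u : F)) * hI hh i u * n) (ρ (n * n) v))
        (fun x => ρ (xI hh i x * hI hh i u * n) (ρ (n * n) v)) (fun x => rfl)]
    obtain ⟨c, hc⟩ : ∃ c : Fˣ, ∀ x : F, (hI hh i u)⁻¹ * xI hh i x * hI hh i u = xI hh i ((c : F) * x) := by
      refine ⟨torusFun D (Pi.mulSingle i.1 u⁻¹ : ℕ → Fˣ) (D.simple i.1), fun x => ?_⟩
      rw [← map_inv]
      refine Subtype.ext ?_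
      rw [Subgroup.coe_mul, Subgroup.coe_mul]
      show torusHom D F (Pi.mulSingle i.1 u⁻¹) * xGL hh.toChecked F (hh.toChecked.simple_lt i.2) x *
        torusHom D F (Pi.mulSingle i.1 u) = _
      have e : torusHom D F (Pi.mulSingle i.1 u) = (torusHom D F (Pi.mulSingle i.1 u⁻¹))⁻¹ := by
        rw [← map_inv, Pi.mulSingle_inv, inv_inv]
      rw [e]
      exact hh.toChecked.conj_x _ _
    rw [tau_apply, map_sum]
    refine Fintype.sum_equiv (Equiv.mulLeft₀ (c : F) c.ne_zero) _ _ fun x => ?_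
    rw [← rep_mul (g := hI hh i u), Equiv.mulLeft₀_apply, ← hc]
    congr 2
    rw [hn]
    group
  choose σ hσ hσsum using hterm
  have hσb : Function.Bijective σ := by
    refine Finite.injective_iff_bijective.1 fun a b e => ?_
    have h1 := congrArg (fun z : Fˣ => (z : F)) e
    simp only [hσ, neg_inj, inv_inj] at h1
    refine Units.ext (mul_left_cancel₀ (fun h0 => ?_) h1)
    have := etaF_sq (F := F) (C := C) i.1 (D.simple i.1)
    rw [h0, mul_zero] at this
    exact zero_ne_one this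
  have hzero : ∑ x : F, ρ (xI hh i x * n) (ρ (xI hh i 0 * n) v) = 0 := by
    rw [xI_zero, one_mul]
    have : ∀ x : F, ρ (xI hh i x * n) (ρ n v) = ρ (n * n) v := fun x => by
      rw [← rep_mul, show xI hh i x * n * n = (n * n) * ((n * n)⁻¹ * xI hh i x * (n * n)) by group,
        rep_mul, hv _ (hTx hsqm _)]
    rw [Finset.sum_congr rfl fun x _ => this x, Finset.sum_const, Finset.card_univ,
      ← Nat.cast_smul_eq_nsmul k]
    rw [(CharP.cast_eq_zero_iff k p _).2, zero_smul]
    obtain ⟨m, -, hm⟩ := FiniteField.card F p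
    exact hm ▸ dvd_pow_self p m.ne_zero
  have hexp : tau hh ρ i (tau hh ρ i v) =
      ∑ y : F, ∑ x : F, ρ (xI hh i x * n) (ρ (xI hh i y * n) v) := by
    simp only [tau_apply, map_sum]
    rw [Finset.sum_comm]
  rw [hexp, ← Finset.add_sum_erase _ _ (Finset.mem_univ (0 : F)), hzero, zero_add]
  have hsum : ∑ y ∈ Finset.univ.erase (0 : F), ∑ x : F, ρ (xI hh i x * n) (ρ (xI hh i y * n) v) =
      ∑ y : Fˣ, ρ (hI hh i (σ y)) (tau hh ρ i (ρ (n * n) v)) :=
    Finset.sum_bij' (fun t ht => Units.mk0 t (Finset.ne_of_mem_erase ht)) (fun c _ => (c : F))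
      (fun _ _ => Finset.mem_univ _) (fun c _ => Finset.mem_erase.2 ⟨c.ne_zero, Finset.mem_univ _⟩)
      (fun _ _ => rfl) (fun _ _ => Units.ext rfl) (fun t ht => hσsum (Units.mk0 t _))
  have hcomm : tau hh ρ i (ρ (n * n) v) = ρ (n * n) (tau hh ρ i v) := by
    rw [torus_tau hh hv i hsqm]
    congr 3
    rw [← hn]
    group
  rw [hsum, hcomm, Fintype.sum_bijective σ hσb (fun y => ρ (hI hh i (σ y)) (ρ (n * n) (tau hh ρ i v)))
    (fun c => ρ (hI hh i c) (ρ (n * n) (tau hh ρ i v))) (fun _ => rfl)]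
  refine Fintype.sum_equiv (Equiv.mulRight (-1 : Fˣ)⁻¹) _ _ fun c => ?_
  rw [← rep_mul, hn, nI_sq, ← map_inv, ← map_mul]
  rfl

/-- A descending step. -/
theorem tau_cellSum_desc (p : ℕ) [Fact p.Prime] [CharP F p] [CharP k p] {v : M} (hv : UFix ρ v)
    (i : Fin D.rank) {L : List ℕ} (hL : IsWord D L)
    (hd : ¬ D.nroots / 2 ≤ perm C L.reverse (D.simple i.1)) :
    tau hh ρ i (cellSum ρ (wG hh L) v) = ∑ c : Fˣ, ρ (hI hh i c) (cellSum ρ (wG hh L) v) := by
  have h := hh.toChecked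
  have hL' := isWord_cons i.2 hL
  have ha : D.nroots / 2 ≤ perm C (i.1 :: L).reverse (D.simple i.1) := by
    rw [List.reverse_cons, perm_append]
    show _ ≤ perm C L.reverse (refl C i.1 (D.simple i.1))
    rw [h.simple_refl i.2, h.perm_ng hL.reverse (h.simple_lt i.2)]
    have := h.perm_lt hL.reverse (h.simple_lt i.2)
    have := h.two_mul_half
    unfold ng; omega
  obtain ⟨t, ht, et⟩ := hh.diag_mul_nProd (F := F) hL (hh.nS_sq i.2)
  have htG : t ∈ D.group F := hh.diagonal_le_group ht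
  set t' : ↥(D.group F) := ⟨t, htG⟩
  have ht' : t' ∈ TG D F := ht
  have hz := hv.torus hh (inv_mem ht')
  have e : cellSum ρ (wG hh L) v = tau hh ρ i (cellSum ρ (wG hh (i.1 :: L)) (ρ t'⁻¹ v)) := by
    rw [tau_cellSum hh hz i hL' ha, wG_cons hh i hL', wG_cons hh i hL, ← mul_assoc,
      show (nI hh i * nI hh i * wG hh L : ↥(D.group F)) = wG hh L * t' from Subtype.ext (by
        rw [Subgroup.coe_mul, Subgroup.coe_mul, Subgroup.coe_mul, wG_val hh hL]
        exact et),
      cellSum_mul_torus hh hz ht', ← rep_mul, mul_inv_cancel, map_one]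
    rfl
  rw [e]
  exact tau_tau hh p (hz.cellSum _) i

end Cfsg.Agent.Lib.RegularCount
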