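import Mathlib
import Cfsg.Agent.Lib.RegularCount.Op

/-!
# Weight vectors

A weight vector is fixed by `U`, transformed by a character under the torus and an eigenvector of every
fundamental operator.  Every representation has one, and every admissible weight occurs.
-/

set_option autoImplicit false

namespace Cfsg.Agent.Lib.RegularCount

open Cfsg.Lie
open Cfsg.Agent.Lib.Chev
open scoped Classical

universe u v w

variable {D : ChevalleyDatum} {C : Cert} {F : Type u} [Field F]

variable (hh : Rooted D C)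

/-- The coroot with values in the torus. -/
noncomputable def hT (i : Fin D.rank) : Fˣ →* ↥(TG D F) := (hI hh i).codRestrict _ (tI_mem hh i)

theorem hT_val (i : Fin D.rank) (c : Fˣ) : ((hT hh i c : ↥(TG D F)) : ↥(D.group F)) = hI hh i c := rfl

include hh in
theorem TG_comm {s t : ↥(D.group F)} (hs : s ∈ TG D F) (ht : t ∈ TG D F) : s * t = t * s :=
  Subtype.ext (hh.diagonal_commute hs ht)

theorem word_conj_T {L : List ℕ} (hL : IsWord D L) {t : ↥(D.group F)} (ht : t ∈ TG D F) :
    ∃ t' ∈ TG D F, t * wG hh L = wG hh L * t' := by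
  obtain ⟨t', ht', e⟩ := hh.diag_mul_nProd hL
    (show (t : GL D.Idx F) ∈ D.diagonalSubgroup F from ht)
  refine ⟨⟨t', hh.diagonal_le_group ht'⟩, ht', Subtype.ext ?_⟩
  rw [Subgroup.coe_mul, Subgroup.coe_mul, wG_val hh hL]
  exact e

theorem word_conj_T' {L : List ℕ} (hL : IsWord D L) {t : ↥(D.group F)} (ht : t ∈ TG D F) :
    wG hh L * t * (wG hh L)⁻¹ ∈ TG D F := by
  obtain ⟨t', ht', e⟩ := hh.nProd_conj_diag hL
    (show (t : GL D.Idx F) ∈ D.diagonalSubgroup F from ht)
  rw [Subgroup.mem_subgroupOf, Subgroup.coe_mul, Subgroup.coe_mul, Subgroup.coe_inv, wG_val hh hL, e,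
    mul_inv_cancel_right]
  exact ht'

/-! ### Words inside a parabolic subgroup, modulo a subgroup of the torus containing its coroots -/

section parabolic

variable {K : Finset ℕ} (hK : K ⊆ Finset.range D.rank) {S : Subgroup ↥(D.group F)} (hle : S ≤ TG D F)
  (hS : ∀ i : Fin D.rank, i.1 ∈ K → ∀ a, hI hh i a ∈ S)

include hK in
theorem isWord_of_K {L : List ℕ} (hL : ∀ a ∈ L, a ∈ K) : IsWord D L :=
  fun a ha => Finset.mem_range.1 (hK (hL a ha))

include hle hS in
theorem nI_push (i : Fin D.rank) (hi : i.1 ∈ K) {t : ↥(D.group F)} (ht : t ∈ TG D F) :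
    ∃ s ∈ S, nI hh i * t = s * t * nI hh i := by
  have ht' : (t : GL D.Idx F) ∈ D.diagonalSubgroup F := ht
  rw [hh.diagonalSubgroup_eq] at ht'
  obtain ⟨c, hc⟩ := ht'
  set P : Fˣ := ∏ m ∈ Finset.range D.rank, c m ^ cm C m i.1 with hP
  have hmem := hS i hi P⁻¹
  refine ⟨hI hh i P⁻¹, hmem, ?_⟩
  rw [← TG_comm hh ht (hle hmem)]
  refine Subtype.ext ?_
  show nS hh.toChecked F i.1 * (t : GL D.Idx F) =
    (t : GL D.Idx F) * torusHom D F (Pi.mulSingle i.1 P⁻¹) * nS hh.toChecked F i.1
  rw [← hc, hh.toChecked.nS_conj_torus i.2, ← map_mul]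
  congr 2
  funext k
  rw [Pi.mul_apply]
  by_cases e : k = i.1
  · subst e; rw [if_pos rfl, Pi.mulSingle_eq_same]
  · rw [if_neg e, Pi.mulSingle_eq_of_ne e, mul_one]

include hK hle hS in
theorem word_push : ∀ {L : List ℕ}, (∀ a ∈ L, a ∈ K) → ∀ {t : ↥(D.group F)}, t ∈ TG D F →
    ∃ s ∈ S, wG hh L * t = s * t * wG hh L
  | [], _, t, _ => ⟨1, one_mem _, by simp [wG_nil]⟩
  | i :: L, hL, t, ht => by
    have hiK := hL i List.mem_cons_self
    have hi : i < D.rank := Finset.mem_range.1 (hK hiK)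
    have hL' : ∀ a ∈ L, a ∈ K := fun a ha => hL a (List.mem_cons_of_mem _ ha)
    obtain ⟨s, hs, e⟩ := word_push hL' ht
    obtain ⟨s', hs', e'⟩ := nI_push hh hle hS ⟨i, hi⟩ hiK (mul_mem (hle hs) ht)
    refine ⟨s' * s, mul_mem hs' hs, ?_⟩
    rw [wG_cons hh ⟨i, hi⟩ (isWord_of_K hK hL'), mul_assoc, e, ← mul_assoc, e']
    simp only [mul_assoc]

theorem wG_conj_nI {B : List ℕ} (hB : IsWord D B) (i k : Fin D.rank)
    (e : perm C B (D.simple k.1) = D.simple i.1) :
    ∃ t : ↥(D.group F), (t = 1 ∨ t = (nI hh i * nI hh i)⁻¹) ∧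
      wG hh B * nI hh k = nI hh i * t * wG hh B := by
  have h := hh.toChecked
  have hp := h.simple_lt k.2
  have e' : perm C B (ng D (D.simple k.1)) = ng D (D.simple i.1) := by rw [h.perm_ng hB hp, e]
  have hw : weta C B (ng D (D.simple k.1)) = weta C B (D.simple k.1) := by
    clear e e'
    induction B with
    | nil => rfl
    | cons j B ih =>
      simp only [weta]
      rw [ih hB.cons.2, h.perm_ng hB.cons.2 hp, h.eta_ng hB.cons.1 (h.perm_lt hB.cons.2 hp)]
  set ε : F := (weta C B (D.simple k.1) : F) with hε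
  have hinv : ε⁻¹ = ε := by rcases weta_cases (C := C) B (D.simple k.1) with w | w <;> simp [hε, w, inv_neg]
  have key : ((nProd h F B : GL D.Idx F) : Matrix D.Idx D.Idx F) * D.nMat F (D.simple k.1) 1 =
      D.nMat F (D.simple i.1) ε * ((nProd h F B : GL D.Idx F) : Matrix D.Idx D.Idx F) := by
    simp only [ChevalleyDatum.nMat, ChevalleyDatum.nWord, ChevalleyDatum.wordMat, List.map_cons, List.map_nil,
      List.prod_cons, List.prod_nil, mul_one, h.neg_eq hp, h.neg_eq (h.simple_lt i.2), inv_one, hinv]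
    rw [← mul_assoc, h.nProd_mul_x hB hp, mul_assoc (D.x F _ _), ← mul_assoc _ (D.x F (ng D _) _),
      h.nProd_mul_x hB (Checked.ng_lt hp), e, e', hw, mul_assoc (D.x F (ng D _) _), h.nProd_mul_x hB hp, e]
    simp only [← mul_assoc, mul_one, mul_neg]
    rw [hε]
  rcases weta_cases (C := C) B (D.simple k.1) with w | w
  · refine ⟨1, Or.inl rfl, Subtype.ext ?_⟩
    simp only [Subgroup.coe_mul, Subgroup.coe_one, mul_one, wG_val hh hB]
    show nProd h F B * nS h F k.1 = nS h F i.1 * nProd h F B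
    refine Units.ext ?_
    rw [Units.val_mul, Units.val_mul, coe_nS _ k.2, coe_nS _ i.2, key]
    simp [hε, w]
  · refine ⟨_, Or.inr rfl, Subtype.ext ?_⟩
    simp only [Subgroup.coe_mul, Subgroup.coe_inv, wG_val hh hB]
    show nProd h F B * nS h F k.1 = nS h F i.1 * (nS h F i.1 * nS h F i.1)⁻¹ * nProd h F B
    rw [mul_inv_rev, ← mul_assoc (nS h F i.1), mul_inv_cancel, one_mul, eq_inv_mul_iff_mul_eq]
    refine Units.ext ?_
    rw [Units.val_mul, Units.val_mul, coe_nS _ k.2, coe_nS _ i.2, key, ← mul_assoc]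
    have : ε = -1 := by simp [hε, w]
    rw [this, h.nMat_mul_nMat_neg (h.simple_lt i.2), one_mul]

include hK hle hS in
/-- A word of the parabolic subgroup preserving the positive roots lies in `S`. -/
theorem word_mem_of_pos : ∀ {L : List ℕ}, (∀ a ∈ L, a ∈ K) →
    (∀ r, D.nroots / 2 ≤ r → r < D.nroots → D.nroots / 2 ≤ perm C L r) → wG hh L ∈ S := by
  intro L
  induction hn : L.length using Nat.strong_induction_on generalizing L with
  | _ n ih =>
    intro hL hpos
    have h := hh.toChecked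
    rcases List.eq_nil_or_concat L with rfl | ⟨L', k, rfl⟩
    · rw [wG_nil]; exact one_mem _
    rw [List.concat_eq_append] at *
    have hLw : IsWord D (L' ++ [k]) := isWord_of_K hK hL
    have hkK : k ∈ K := hL k (List.mem_append_right _ List.mem_cons_self)
    have hk : k < D.rank := Finset.mem_range.1 (hK hkK)
    have hp := h.simple_spec hk
    have h1 := hpos _ hp.2 hp.1
    rw [perm_append, show perm C [k] (D.simple k) = ng D (D.simple k) from h.simple_refl hk] at h1
    obtain ⟨A, i, B, rfl, eB⟩ := hh.exists_flip hLw.left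
      (r := ng D (D.simple k)) (by have := h.two_mul_half; unfold ng; omega) h1
    have hiB := IsWord.cons hLw.left.right
    have hAw : IsWord D A := hLw.left.left
    have hiK : i ∈ K := hL i (by simp)
    have hAB : ∀ a ∈ A ++ B, a ∈ K := fun a ha => hL a (by
      rcases List.mem_append.1 ha with ha | ha <;> simp [ha])
    have eB' : perm C B (D.simple k) = D.simple i := by
      have := congrArg (ng D) eB
      rwa [h.perm_ng hiB.2 hp.1, Checked.ng_ng (h.perm_lt hiB.2 hp.1),
        Checked.ng_ng (h.simple_lt hiB.1)] at this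
    obtain ⟨t, ht, e⟩ := wG_conj_nI (F := F) hh hiB.2 ⟨i, hiB.1⟩ ⟨k, hk⟩ eB'
    have hsq : (nI hh ⟨i, hiB.1⟩ * nI hh ⟨i, hiB.1⟩ : ↥(D.group F)) ∈ S := by
      rw [nI_sq]; exact inv_mem (hS _ hiK _)
    have htS : t ∈ S := by
      rcases ht with rfl | rfl
      exacts [one_mem _, inv_mem hsq]
    obtain ⟨s, hs, es⟩ := word_push hh hK hle hS (L := A)
      (fun a ha => hAB a (List.mem_append_left _ ha)) (hle (mul_mem hsq htS))
    set z : ↥(D.group F) := s * (nI hh ⟨i, hiB.1⟩ * nI hh ⟨i, hiB.1⟩ * t) with hz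
    have hzS : z ∈ S := mul_mem hs (mul_mem hsq htS)
    have heq : wG hh (A ++ i :: B ++ [k]) = z * wG hh (A ++ B) := by
      rw [wG_append hh hLw.left hLw.right, wG_append hh hAw (isWord_cons hiB.1 hiB.2),
        wG_append hh hAw hiB.2, wG_cons hh ⟨i, hiB.1⟩ hiB.2, wG_cons hh ⟨k, hk⟩ isWord_nil, wG_nil,
        mul_one]
      calc wG hh A * (nI hh ⟨i, hiB.1⟩ * wG hh B) * nI hh ⟨k, hk⟩
          = wG hh A * nI hh ⟨i, hiB.1⟩ * (wG hh B * nI hh ⟨k, hk⟩) := by group
        _ = wG hh A * (nI hh ⟨i, hiB.1⟩ * nI hh ⟨i, hiB.1⟩ * t) * wG hh B := by rw [e]; group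
        _ = _ := by rw [es, hz]; group
    rw [heq]
    refine mul_mem hzS (ih (A ++ B).length ?_ rfl hAB fun r hr hr' => ?_)
    · simp only [List.length_append, List.length_cons, List.length_nil] at hn ⊢; omega
    · obtain ⟨z', hz', ez⟩ := hh.diag_mul_nProd (isWord_of_K hK hAB)
        (show (z : GL D.Idx F) ∈ D.diagonalSubgroup F from hle hzS)
      have heq' := congrArg Subtype.val heq
      rw [Subgroup.coe_mul, wG_val hh hLw, wG_val hh (isWord_of_K hK hAB), ez] at heq'
      rw [← hh.perm_eq_of_eq (F := F) hLw (isWord_of_K hK hAB) hz' heq' hr']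
      exact hpos r hr hr'

include hK hle hS in
/-- Two words of the parabolic subgroup with the same permutation differ by an element of `S`. -/
theorem word_unique {L L' : List ℕ} (hL : ∀ a ∈ L, a ∈ K) (hL' : ∀ a ∈ L', a ∈ K)
    (e : wperm hh.toChecked L = wperm hh.toChecked L') :
    ∃ s ∈ S, wG hh L = s * wG hh L' := by
  have h := hh.toChecked
  have hw := isWord_of_K hK hL
  have hw' := isWord_of_K hK hL'
  have hpos : ∀ {L₁ : List ℕ}, (∀ a ∈ L₁, a ∈ K) → wperm h L₁ = wperm h L' →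
      wG hh (L₁ ++ L'.reverse) ∈ S := by
    intro L₁ h1 e1
    have hall : ∀ a ∈ L₁ ++ L'.reverse, a ∈ K := fun a ha => by
      rcases List.mem_append.1 ha with ha | ha
      exacts [h1 a ha, hL' a (List.mem_reverse.1 ha)]
    refine word_mem_of_pos hh hK hle hS hall fun r hr hr' => ?_
    have : wperm h (L₁ ++ L'.reverse) = 1 := by
      rw [wperm_append, wperm_reverse hh hw', e1, mul_inv_cancel]
    rw [← h.wperm_val (isWord_of_K hK hall) ⟨r, hr'⟩, this]
    exact hr
  have a := hpos hL e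
  have b := hpos hL' rfl
  rw [wG_append hh hw hw'.reverse] at a
  rw [wG_append hh hw' hw'.reverse] at b
  exact ⟨_, mul_mem a (inv_mem b), by group⟩

end parabolic

/-! ### The longest word -/

/-- A word for the longest element. -/
noncomputable def L0 : List ℕ := hh.exists_longest.choose

theorem L0_word : IsWord D (L0 hh) := hh.exists_longest.choose_spec.1

/-- The longest element. -/
noncomputable def n0 : ↥(D.group F) := wG hh (L0 hh)

theorem L0_rev_neg {r : ℕ} (hr : r < D.nroots) (hp : D.nroots / 2 ≤ r) :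
    perm C (L0 hh).reverse r < D.nroots / 2 := by
  have h := hh.toChecked
  by_contra hn
  have h1 := hh.exists_longest.choose_spec.2.1 _ (not_lt.1 hn) (h.perm_lt (L0_word hh).reverse hr)
  have h2 := h.perm_reverse (L0_word hh).reverse hr
  rw [List.reverse_reverse] at h2
  change perm C (L0 hh) _ < _ at h1
  rw [h2] at h1
  omega

theorem L0_rev_pos {r : ℕ} (hr : r < D.nroots / 2) :
    D.nroots / 2 ≤ perm C (L0 hh).reverse r := by
  have h := hh.toChecked
  by_contra hn
  have h1 := hh.exists_longest.choose_spec.2.2 _ (not_le.1 hn)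
  have h2 := h.perm_reverse (L0_word hh).reverse (show r < D.nroots by omega)
  rw [List.reverse_reverse] at h2
  change _ ≤ perm C (L0 hh) _ at h1
  rw [h2] at h1
  omega

/-- `n₀` carries `U⁻` into `U`. -/
theorem n0_conj_neg {a : ↥(D.group F)} (ha : a ∈ VG D F) : n0 hh * a * (n0 hh)⁻¹ ∈ UG D F := by
  have h := hh.toChecked
  have h2 : (a : GL D.Idx F) ∈ rootGen D F (negSet D) := by
    rw [← h.negUnipotent_eq]; exact ha
  have h1 := h.conj_rootGen_le (L0_word hh) (M := D.posUnipotent F) (fun r hr => by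
      have := h.two_mul_half; have : r < D.nroots / 2 := hr; omega)
    (fun r hr hrS _ => h.xGL_mem_pos _ (hh.exists_longest.choose_spec.2.2 r hrS) _) h2
  rw [Subgroup.mem_subgroupOf, Subgroup.coe_mul, Subgroup.coe_mul, Subgroup.coe_inv, n0,
    wG_val hh (L0_word hh)]
  exact h1

/-- Conjugation of the torus by `n₀`. -/
noncomputable def conjT : ↥(TG D F) →* ↥(TG D F) where
  toFun t := ⟨n0 hh * (t : ↥(D.group F)) * (n0 hh)⁻¹, word_conj_T' hh (L0_word hh) t.2⟩
  map_one' := Subtype.ext (by simp)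
  map_mul' a b := Subtype.ext (by simp only [Subgroup.coe_mul]; group)

/-! ### Weight vectors -/

variable [Fintype F] {k : Type v} [Field k] {M : Type w} [AddCommGroup M] [Module k M]
variable (ρ : Representation k ↥(D.group F) M)

/-- A vector of weight `(χ, J)`. -/
structure IsEigen (χ : ↥(TG D F) →* k) (J : Finset (Fin D.rank)) (v : M) : Prop where
  ne : v ≠ 0
  fix : UFix ρ v
  torus : ∀ t : ↥(TG D F), ρ (t : ↥(D.group F)) v = χ t • v
  tau_eq : ∀ i, tau hh ρ i v = (if i ∈ J then (-1 : k) else 0) • v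

/-- Characters trivial on the coroot. -/
def Triv (χ : ↥(TG D F) →* k) (i : Fin D.rank) : Prop := χ.comp (hT hh i) = 1

variable {ρ}

theorem sum_hI_apply (p : ℕ) [Fact p.Prime] [CharP F p] [CharP k p] {χ : ↥(TG D F) →* k} {v : M}
    (hv : ∀ t : ↥(TG D F), ρ (t : ↥(D.group F)) v = χ t • v) (i : Fin D.rank) :
    ∑ c : Fˣ, ρ (hI hh i c) v = (if Triv hh χ i then (-1 : k) else 0) • v := by
  have e : ∀ c : Fˣ, ρ (hI hh i c) v = (χ.comp (hT hh i)) c • v := fun c => hv (hT hh i c)
  rw [Finset.sum_congr rfl fun c _ => e c, ← Finset.sum_smul]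
  congr 1
  split_ifs with h
  · rw [show χ.comp (hT hh i) = 1 from h]
    simp only [MonoidHom.one_apply, Finset.sum_const, Finset.card_univ, nsmul_one, Fintype.card_units]
    obtain ⟨m, -, hm⟩ := FiniteField.card F p
    rw [Nat.cast_sub Fintype.card_pos, Nat.cast_one, hm, Nat.cast_pow, CharP.cast_eq_zero k p,
      zero_pow m.ne_zero, zero_sub]
  · exact sum_hom_units_eq_zero _ h

theorem IsEigen.triv (p : ℕ) [Fact p.Prime] [CharP F p] [CharP k p] {χ : ↥(TG D F) →* k}
    {J : Finset (Fin D.rank)} {v : M} (hv : IsEigen hh ρ χ J v) {i : Fin D.rank} (hi : i ∈ J) :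
    Triv hh χ i := by
  by_contra hn
  have h1 := hv.tau_eq i
  rw [if_pos hi, neg_one_smul] at h1
  have h2 := tau_tau hh p hv.fix i
  rw [h1, map_neg, h1, neg_neg] at h2
  simp only [map_neg, Finset.sum_neg_distrib] at h2
  rw [sum_hI_apply hh p hv.torus i, if_neg hn, zero_smul, neg_zero] at h2
  exact hv.ne h2

/-- The weight vector built from a torus eigenvector. -/
theorem exists_weight_vector (p : ℕ) [Fact p.Prime] [CharP F p] [CharP k p] {χ : ↥(TG D F) →* k}
    {J : Finset (Fin D.rank)} (hJ : ∀ i ∈ J, Triv hh χ i) {e : M} (he : UFix ρ e)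
    (het : ∀ t : ↥(TG D F), ρ (t : ↥(D.group F)) e = χ (conjT hh t) • e)
    (hne : ∀ y : M, (∃ K : Finset ℕ, K ⊆ Finset.range D.rank ∧ ∃ Ls : Equiv.Perm (Fin D.nroots) → List ℕ,
        (∀ u ∈ weyl hh.toChecked K, (∀ a ∈ Ls u, a ∈ K) ∧ wperm hh.toChecked (Ls u) = u) ∧
        Ls 1 = [] ∧
        y = ∑ u ∈ Finset.univ.filter (· ∈ weyl hh.toChecked K),
          cellSum ρ (wG hh (Ls u ++ L0 hh)) e) → y ≠ 0) :
    ∃ y, IsEigen hh ρ χ J y := by
  have h := hh.toChecked
  set K : Finset ℕ := (Finset.univ.filter fun i : Fin D.rank => Triv hh χ i ∧ i ∉ J).image Fin.val with hKdef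
  have hK : K ⊆ Finset.range D.rank := fun a ha => by
    obtain ⟨i, -, rfl⟩ := Finset.mem_image.1 ha
    exact Finset.mem_range.2 i.2
  have hKiff : ∀ i : Fin D.rank, i.1 ∈ K ↔ Triv hh χ i ∧ i ∉ J := by
    intro i
    rw [hKdef, Finset.mem_image]
    constructor
    · rintro ⟨j, hj, e⟩
      rw [← Fin.ext e]
      exact (Finset.mem_filter.1 hj).2
    · exact fun hi => ⟨i, Finset.mem_filter.2 ⟨Finset.mem_univ _, hi⟩, rfl⟩
  set S : Subgroup ↥(D.group F) := χ.ker.map (TG D F).subtype with hSdef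
  have hle : S ≤ TG D F := Subgroup.map_subtype_le _
  have hS : ∀ i : Fin D.rank, i.1 ∈ K → ∀ a, hI hh i a ∈ S := fun i hi a =>
    ⟨hT hh i a, DFunLike.congr_fun ((hKiff i).1 hi).1 a, rfl⟩
  let f : List ℕ → M := fun L => cellSum ρ (wG hh (L ++ L0 hh)) e
  have hfix : ∀ L, UFix ρ (f L) := fun L => he.cellSum _
  have hfT : ∀ {L}, (∀ a ∈ L, a ∈ K) → ∀ t : ↥(TG D F), ρ (t : ↥(D.group F)) (f L) = χ t • f L := by
    intro L hL t
    have hw := isWord_of_K hK hL
    obtain ⟨t', ht', et⟩ := word_conj_T hh hw t.2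
    obtain ⟨s, ⟨s₀, hs₀, rfl⟩, es⟩ := word_push hh hK hle hS hL ht'
    have hts : (t : ↥(D.group F)) = (s₀ : ↥(D.group F)) * t' := mul_right_cancel (et.trans es)
    have hχ : χ t = χ ⟨t', ht'⟩ := by
      rw [show t = s₀ * ⟨t', ht'⟩ from Subtype.ext hts, map_mul, MonoidHom.mem_ker.1 hs₀, one_mul]
    obtain ⟨t'', ht'', et''⟩ := word_conj_T hh (L0_word hh) ht'
    show ρ (t : ↥(D.group F)) (cellSum ρ (wG hh (L ++ L0 hh)) e) = _
    rw [wG_append hh hw (L0_word hh), torus_cellSum hh he t.2, ← mul_assoc, et, mul_assoc, et'',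
      ← mul_assoc, cellSum_mul_torus hh he ht'', het ⟨t'', ht''⟩, map_smul,
      ← wG_append hh hw (L0_word hh), hχ]
    congr 2
    refine Subtype.ext ?_
    show n0 hh * t'' * (n0 hh)⁻¹ = t'
    rw [n0, ← et'', mul_inv_cancel_right]
  have hinv : ∀ {L L'}, (∀ a ∈ L, a ∈ K) → (∀ a ∈ L', a ∈ K) →
      wperm h L = wperm h L' → f L = f L' := by
    intro L L' hL hL' ew
    obtain ⟨s, ⟨s₀, hs₀, rfl⟩, es⟩ := word_unique hh hK hle hS hL hL' ew
    have e1 := hfT hL' s₀
    rw [MonoidHom.mem_ker.1 hs₀, one_smul] at e1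
    rw [← e1]
    show cellSum ρ (wG hh (L ++ L0 hh)) e = ρ (s₀ : ↥(D.group F)) (cellSum ρ (wG hh (L' ++ L0 hh)) e)
    rw [torus_cellSum hh he s₀.2, wG_append hh (isWord_of_K hK hL) (L0_word hh), es,
      wG_append hh (isWord_of_K hK hL') (L0_word hh), mul_assoc]
    rfl
  choose Lc hLc hLc' using fun (u : Equiv.Perm (Fin D.nroots)) (hu : u ∈ weyl h K) => h.exists_wperm hu
  let Ls : Equiv.Perm (Fin D.nroots) → List ℕ := fun u =>
    if u = 1 then [] else if hu : u ∈ weyl h K then Lc u hu else []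
  have hLs : ∀ u ∈ weyl h K, (∀ a ∈ Ls u, a ∈ K) ∧ wperm h (Ls u) = u := by
    intro u hu
    by_cases e1 : u = 1
    · simp [Ls, e1, wperm]
    · simp only [Ls, if_neg e1, dif_pos hu]
      exact ⟨hLc u hu, hLc' u hu⟩
  set W := Finset.univ.filter (· ∈ weyl h K) with hW
  set y := ∑ u ∈ W, f (Ls u) with hy
  have hyT : ∀ t : ↥(TG D F), ρ (t : ↥(D.group F)) y = χ t • y := fun t => by
    rw [hy, map_sum, Finset.smul_sum]
    exact Finset.sum_congr rfl fun u hu => hfT (hLs u (Finset.mem_filter.1 hu).2).1 t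
  refine ⟨y, ⟨hne y ⟨K, hK, Ls, hLs, if_pos rfl, rfl⟩, fun g hg => ?_, hyT, fun i => ?_⟩⟩
  · rw [hy, map_sum]; exact Finset.sum_congr rfl fun u _ => hfix _ g hg
  -- the position of `α_i` under the words
  have hstep : ∀ u ∈ W, tau hh ρ i (f (Ls u)) =
      if D.nroots / 2 ≤ perm C (Ls u).reverse (D.simple i.1)
      then (if Triv hh χ i then (-1 : k) else 0) • f (Ls u)
      else f (i.1 :: Ls u) := by
    intro u hu
    have hu' := hLs u (Finset.mem_filter.1 hu).2
    have hw := isWord_of_K hK hu'.1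
    have hlt := h.perm_lt hw.reverse (h.simple_lt i.2)
    split_ifs with hp hT hT
    all_goals
      try rw [← sum_hI_apply hh p (hfT hu'.1) i |>.trans (congrArg (· • _) (if_pos hT))]
      try rw [← sum_hI_apply hh p (hfT hu'.1) i |>.trans (congrArg (· • _) (if_neg hT))]
    · refine tau_cellSum_desc hh p he i (hw.append (L0_word hh)) ?_
      rw [List.reverse_append, perm_append]
      exact not_le.2 (L0_rev_neg hh hlt hp)
    · refine tau_cellSum_desc hh p he i (hw.append (L0_word hh)) ?_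
      rw [List.reverse_append, perm_append]
      exact not_le.2 (L0_rev_neg hh hlt hp)
    · refine tau_cellSum hh he i (hw.append (L0_word hh)) ?_
      rw [List.reverse_append, perm_append]
      exact L0_rev_pos hh (not_le.1 hp)
  rw [hy, map_sum, Finset.sum_congr rfl hstep]
  have hposit : ∀ u ∈ W, D.nroots / 2 ≤ perm C (Ls u).reverse (D.simple i.1) ↔
      D.nroots / 2 ≤ (u⁻¹ (h.sroot i.2)).val := by
    intro u hu
    have hu' := hLs u (Finset.mem_filter.1 hu).2
    have hw := isWord_of_K hK hu'.1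
    conv_rhs => rw [← hu'.2, ← wperm_reverse hh hw, h.wperm_val hw.reverse]
    rfl
  by_cases hiK : i.1 ∈ K
  · obtain ⟨hT, hiJ⟩ := (hKiff i).1 hiK
    rw [if_neg hiJ, zero_smul, Finset.sum_ite, if_pos hT]
    simp only [neg_one_smul, Finset.sum_neg_distrib]
    rw [neg_add_eq_zero]
    refine Finset.sum_bij' (fun u _ => sigma h i.1 * u) (fun u _ => sigma h i.1 * u) ?_ ?_ ?_ ?_ ?_
    all_goals intro u hu
    · rw [Finset.mem_filter] at hu ⊢
      have hu1 := (Finset.mem_filter.1 hu.1).2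
      have hm : sigma h i.1 * u ∈ W :=
        Finset.mem_filter.2 ⟨Finset.mem_univ _, mul_mem (h.sigma_mem_weyl hiK) hu1⟩
      refine ⟨hm, fun hc => ?_⟩
      rw [hposit _ hm, mul_inv_rev, Equiv.Perm.mul_apply, h.sigma_inv, h.sigma_sroot i.2,
        h.weyl_ng (inv_mem (weyl_mono h hK hu1)), h.ngFin_pos] at hc
      exact hc ((hposit u hu.1).1 hu.2)
    · rw [Finset.mem_filter] at hu ⊢
      have hu1 := (Finset.mem_filter.1 hu.1).2
      have hm : sigma h i.1 * u ∈ W :=
        Finset.mem_filter.2 ⟨Finset.mem_univ _, mul_mem (h.sigma_mem_weyl hiK) hu1⟩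
      refine ⟨hm, ?_⟩
      rw [hposit _ hm, mul_inv_rev, Equiv.Perm.mul_apply, h.sigma_inv, h.sigma_sroot i.2,
        h.weyl_ng (inv_mem (weyl_mono h hK hu1)), h.ngFin_pos]
      exact fun hc => hu.2 ((hposit u hu.1).2 hc)
    · rw [← mul_assoc, h.sigma_sigma, one_mul]
    · rw [← mul_assoc, h.sigma_sigma, one_mul]
    · have hu1 := (Finset.mem_filter.1 (Finset.mem_filter.1 hu).1).2
      have hsu := hLs _ (mul_mem (h.sigma_mem_weyl hiK) hu1)
      refine hinv (hLs u hu1).1 (fun a ha => ?_) ?_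
      · rcases List.mem_cons.1 ha with rfl | ha
        exacts [hiK, hsu.1 a ha]
      · rw [wperm_cons, hsu.2, ← mul_assoc, h.sigma_sigma, one_mul, (hLs u hu1).2]
  · have hall : ∀ u ∈ W, D.nroots / 2 ≤ perm C (Ls u).reverse (D.simple i.1) := by
      intro u hu
      rw [hposit u hu]
      have e1 := h.coef_eq_of_mem hK (inv_mem (Finset.mem_filter.1 hu).2) i.2 hiK (h.sroot i.2)
      rw [show coef D C i.1 (h.sroot i.2).val = 1 by
        show coef D C i.1 (D.simple i.1) = 1
        rw [(h.simple_tab i.2 i.2).2.1, if_pos rfl]] at e1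
      exact (h.posSet_of_coef_pos i.2 (Fin.isLt _) (by rw [e1]; exact one_pos)).1
    rw [Finset.sum_congr rfl fun u hu => if_pos (hall u hu), ← Finset.smul_sum]
    congr 1
    by_cases hiJ : i ∈ J
    · rw [if_pos (hJ i hiJ), if_pos hiJ]
    · rw [if_neg hiJ, if_neg fun hT => hiK ((hKiff i).2 ⟨hT, hiJ⟩)]

/-- Every weight occurs in the regular representation. -/
theorem exists_regular_weight (p : ℕ) [Fact p.Prime] [CharP F p] [CharP k p] {χ : ↥(TG D F) →* k}
    {J : Finset (Fin D.rank)} (hJ : ∀ i ∈ J, Triv hh χ i) :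
    ∃ (σ : Representation k ↥(D.group F) (↥(D.group F) → k)) (y : ↥(D.group F) → k),
      IsEigen hh σ χ J y := by
  have h := hh.toChecked
  let σ : Representation k ↥(D.group F) (↥(D.group F) → k) :=
    { toFun := fun g => LinearMap.funLeft k k fun x => g⁻¹ * x
      map_one' := by ext f x; simp [LinearMap.funLeft]
      map_mul' := fun a b => by ext f x; simp [LinearMap.funLeft, mul_assoc] }
  have hσ : ∀ (g : ↥(D.group F)) (f : ↥(D.group F) → k) (x : ↥(D.group F)), σ g f x = f (g⁻¹ * x) :=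
    fun g f x => rfl
  letI : Fintype ↥(TG D F) := Fintype.ofFinite _
  let cc : ↥(TG D F) → k := fun t => χ (conjT hh t⁻¹)
  let e : ↥(D.group F) → k := fun x =>
    ∑ t : ↥(TG D F), if x * (t : ↥(D.group F))⁻¹ ∈ UG D F then cc t else 0
  have he : UFix σ e := by
    intro u hu
    funext x
    rw [hσ]
    refine Finset.sum_congr rfl fun t _ => if_congr ?_ rfl rfl
    rw [mul_assoc]
    exact Subgroup.mul_mem_cancel_left _ (inv_mem hu)
  have het : ∀ s : ↥(TG D F), σ (s : ↥(D.group F)) e = χ (conjT hh s) • e := by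
    intro s
    funext x
    rw [hσ, Pi.smul_apply, smul_eq_mul, Finset.mul_sum]
    refine Fintype.sum_equiv (Equiv.mulLeft s) _ _ fun t => ?_
    rw [mul_ite, mul_zero, Equiv.coe_mulLeft]
    refine if_congr ?_ ?_ rfl
    · rw [Subgroup.coe_mul, mul_inv_rev]
      constructor <;> intro hx
      · have := torus_conj_U hh s.2 hx
        convert this using 1
        group
      · have := torus_conj_U' hh s.2 hx
        convert this using 1
        group
    · simp only [cc]
      rw [← map_mul, ← map_mul]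
      congr 2
      refine Subtype.ext ?_
      simp only [Subgroup.coe_mul, Subgroup.coe_inv, mul_inv_rev]
      rw [TG_comm hh (inv_mem t.2) (inv_mem s.2), ← mul_assoc, mul_inv_cancel, one_mul]
  refine ⟨σ, exists_weight_vector hh p hJ he het ?_⟩
  rintro y ⟨K, hK, Ls, hLs, hL1, rfl⟩ hy
  have h0 := congrFun hy (n0 hh)
  rw [Finset.sum_apply, Finset.sum_eq_single 1] at h0
  · rw [hL1, List.nil_append, cellSum_apply, Finset.sum_apply,
      Finset.sum_eq_single (QuotientGroup.mk (wG hh (L0 hh)) : ↥(D.group F) ⧸ UG D F),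
      he.apply_eq (QuotientGroup.out_eq' _), hσ, n0, inv_mul_cancel, Pi.zero_apply] at h0
    · rw [show e 1 = 1 from ?_] at h0
      · exact one_ne_zero h0
      show ∑ t : ↥(TG D F), _ = (1 : k)
      rw [Finset.sum_eq_single 1]
      · simp [cc]
      · intro t _ ht
        rw [if_neg]
        intro hx
        rw [one_mul, inv_mem_iff] at hx
        exact ht (Subtype.ext (Subtype.ext (Subgroup.mem_bot.1 (hh.posUnipotent_inf_diagonal.le
          (Subgroup.mem_inf.2 ⟨hx, t.2⟩)))))
      · simp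
    · intro q hq hne
      rw [hσ]
      refine Finset.sum_eq_zero fun t _ => if_neg fun hx => hne ?_
      obtain ⟨u, hu, rfl⟩ := mem_cosets.1 hq
      set q' := (QuotientGroup.mk (u * wG hh (L0 hh)) : ↥(D.group F) ⧸ UG D F).out
      have h1 : q'⁻¹ * (u * wG hh (L0 hh)) ∈ UG D F := QuotientGroup.eq.1 (QuotientGroup.out_eq' _)
      refine QuotientGroup.eq.2 ?_
      set z := (u * wG hh (L0 hh))⁻¹ * wG hh (L0 hh) with hz
      have hzB : (z : GL D.Idx F) ∈ D.borelSubgroup F := by
        have e1 : z = (q'⁻¹ * (u * wG hh (L0 hh)))⁻¹ * (q'⁻¹ * n0 hh * (t : ↥(D.group F))⁻¹) * (t : ↥(D.group F)) := by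
          rw [hz, n0]; group
        rw [e1]
        exact mul_mem (mul_mem (inv_mem (mem_inG_borel hh h1)) (mem_inG_borel hh hx))
          (Subgroup.mem_sup_right t.2)
      have hzN : (z : GL D.Idx F) ∈ D.negUnipotent F := by
        have h2 : (u⁻¹ : ↥(D.group F)) ∈ UG D F := inv_mem hu
        rw [hz, show (u * wG hh (L0 hh))⁻¹ * wG hh (L0 hh) = (wG hh (L0 hh))⁻¹ * u⁻¹ * wG hh (L0 hh) by group,
          Subgroup.coe_mul, Subgroup.coe_mul, Subgroup.coe_inv, wG_val hh (L0_word hh)]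
        have h3 : ((u⁻¹ : ↥(D.group F)) : GL D.Idx F) ∈ rootGen D F (posSet D) := by
          rw [← h.posUnipotent_eq]; exact h2
        obtain ⟨t₀, ht₀, et₀⟩ : ∃ t₀ ∈ D.diagonalSubgroup F,
            nProd h F (L0 hh) * nProd h F (L0 hh) = t₀ := ⟨_, by
          rw [← nProd_append]
          refine hh.nProd_mem_diag_of_pos ((L0_word hh).append (L0_word hh)) fun r hp hr => ?_
          rw [perm_append]
          exact hh.exists_longest.choose_spec.2.2 _ (hh.exists_longest.choose_spec.2.1 r hp hr), rfl⟩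
        have h4 := h.conj_rootGen_le (L0_word hh) (M := D.negUnipotent F) (fun r hr => hr.2)
          (fun r hr hrS _ => h.xGL_mem_neg _ (hh.exists_longest.choose_spec.2.1 r hrS.1 hrS.2) _) h3
        have h5 := (Subgroup.mem_normalizer_iff.1 (hh.diagonal_le_normalizer_negUnipotent
          (inv_mem ht₀)) _).1 h4
        convert h5 using 1
        rw [← et₀]
        group
      have hz1 : z = 1 := Subtype.ext (Subgroup.mem_bot.1 (hh.borel_inf_negUnipotent.le
        (Subgroup.mem_inf.2 ⟨hzB, hzN⟩)))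
      rw [hz1]
      exact one_mem _
    · intro hn
      exact absurd (mem_cosets.2 ⟨1, one_mem _, by rw [one_mul]⟩) hn
  · intro u hu hu1
    rw [cellSum_apply, Finset.sum_apply]
    refine Finset.sum_eq_zero fun q hq => ?_
    rw [hσ]
    refine Finset.sum_eq_zero fun t _ => if_neg fun hx => hu1 ?_
    have hw : IsWord D (Ls u) := isWord_of_K hK (hLs u (Finset.mem_filter.1 hu).2).1
    obtain ⟨a, ha, rfl⟩ := mem_cosets.1 hq
    set q' := (QuotientGroup.mk (a * wG hh (Ls u ++ L0 hh)) : ↥(D.group F) ⧸ UG D F).out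
    have h1 : q'⁻¹ * (a * wG hh (Ls u ++ L0 hh)) ∈ UG D F := QuotientGroup.eq.1 (QuotientGroup.out_eq' _)
    have hm : ((n0 hh : ↥(D.group F)) : GL D.Idx F) ∈ bcell h F (wperm h (Ls u ++ L0 hh)) := by
      have h3 := bcell_mul_mem (h := h) (mem_inG_borel hh ha) (hh.nProd_mem_bcell (F := F) (hw.append (L0_word hh)))
        (mul_mem (mul_mem (inv_mem (mem_inG_borel hh h1)) (mem_inG_borel hh hx))
          (Subgroup.mem_sup_right t.2))
      convert h3 using 1
      simp only [Subgroup.coe_mul, Subgroup.coe_inv, Subgroup.coe_subtype, ← wG_val hh (hw.append (L0_word hh))]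
      group
    have hm0 : ((n0 hh : ↥(D.group F)) : GL D.Idx F) ∈ bcell h F (wperm h (L0 hh)) := by
      rw [n0, wG_val hh (L0_word hh)]; exact hh.nProd_mem_bcell (L0_word hh)
    have := hh.bcell_unique hm hm0
    rwa [wperm_append, (hLs u (Finset.mem_filter.1 hu).2).2, mul_eq_right] at this
  · intro hn
    exact absurd (Finset.mem_filter.2 ⟨Finset.mem_univ _, one_mem _⟩) hn

/-- A nonzero vector fixed by a `p`-group. -/
theorem exists_fixed {G : Type u} [Group G] (p : ℕ) [Fact p.Prime] [CharP k p] (σ : Representation k G M)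
    {H : Subgroup G} [Finite H] (hH : IsPGroup p H) [Nontrivial M] :
    ∃ v : M, v ≠ 0 ∧ ∀ g ∈ H, σ g v = v := by
  cases nonempty_fintype H
  obtain ⟨v, hv⟩ := exists_ne (0 : M)
  let Φ : (H → ZMod p) →+ M :=
    { toFun := fun f => ∑ g : H, (ZMod.castHom dvd_rfl k (f g)) • σ (g : G) v
      map_zero' := by simp
      map_add' := fun a b => by simp [add_smul, Finset.sum_add_distrib] }
  let W := Φ.range
  have hcl : ∀ (g : H) (x : M), x ∈ W → σ (g : G) x ∈ W := by
    rintro g _ ⟨f, rfl⟩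
    refine ⟨fun a => f (g⁻¹ * a), ?_⟩
    show ∑ a : H, _ = σ (g : G) (∑ a : H, _)
    rw [map_sum]
    refine (Fintype.sum_equiv (Equiv.mulLeft g) _ _ fun a => ?_).symm
    simp [map_smul]
  letI : MulAction H W :=
    { smul := fun g x => ⟨σ (g : G) x.1, hcl g x.1 x.2⟩
      one_smul := fun x => Subtype.ext (show σ ((1 : H) : G) x.1 = x.1 by simp)
      mul_smul := fun a b x => Subtype.ext
        (show σ ((a * b : H) : G) x.1 = σ (a : G) (σ (b : G) x.1) by simp) }
  haveI : Finite W := Finite.of_surjective _ Φ.rangeRestrict_surjective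
  have hvW : v ∈ W := ⟨Pi.single 1 1, by
    show ∑ g : H, _ = v
    rw [Finset.sum_eq_single 1] <;> simp +contextual⟩
  have hdvd : p ∣ Nat.card W := by
    have h1 : Nat.card W ∣ Nat.card (H → ZMod p) := AddSubgroup.card_range_dvd Φ
    rw [Nat.card_fun, Nat.card_zmod] at h1
    obtain ⟨i, -, hi⟩ := (Nat.dvd_prime_pow Fact.out).1 h1
    rcases i with _ | i
    · exfalso
      rw [pow_zero, Nat.card_eq_one_iff_unique] at hi
      exact hv (congrArg Subtype.val (hi.1.allEq ⟨v, hvW⟩ 0))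
    · rw [hi]; exact dvd_pow_self p (by omega)
  have h0fix : (0 : W) ∈ MulAction.fixedPoints H W := fun g => Subtype.ext (map_zero _)
  obtain ⟨x, hx, hne⟩ := hH.exists_fixed_point_of_prime_dvd_card_of_fixed_point W hdvd h0fix
  exact ⟨x.1, fun e => hne (Subtype.ext e.symm), fun g hg => congrArg Subtype.val (hx ⟨g, hg⟩)⟩

include hh in
/-- A fixed vector which is an eigenvector of the whole torus. -/
theorem exists_torus_eigen (p : ℕ) [Fact p.Prime] [CharP F p] [CharP k p] [IsAlgClosed k]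
    [FiniteDimensional k M] [Nontrivial M] :
    ∃ v : M, v ≠ 0 ∧ UFix ρ v ∧ ∀ t : ↥(TG D F), ∃ c : k, ρ (t : ↥(D.group F)) v = c • v := by
  letI : Fintype ↥(TG D F) := Fintype.ofFinite _
  suffices key : ∀ s : Finset ↥(TG D F), ∃ W : Submodule k M, W ≠ ⊥ ∧ (∀ x ∈ W, UFix ρ x) ∧
      (∀ (t : ↥(TG D F)), ∀ x ∈ W, ρ (t : ↥(D.group F)) x ∈ W) ∧
      ∀ t ∈ s, ∃ c : k, ∀ x ∈ W, ρ (t : ↥(D.group F)) x = c • x by
    obtain ⟨W, hW, h1, -, h3⟩ := key Finset.univ
    obtain ⟨v, hvW, hv⟩ := Submodule.exists_mem_ne_zero_of_ne_bot hW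
    exact ⟨v, hv, h1 v hvW, fun t => (h3 t (Finset.mem_univ _)).imp fun c hc => hc v hvW⟩
  intro s
  induction s using Finset.induction_on with
  | empty =>
    let W : Submodule k M :=
      { carrier := {x | UFix ρ x}
        add_mem' := fun {a b} ha hb u hu => by rw [map_add, ha u hu, hb u hu]
        zero_mem' := fun u hu => map_zero _
        smul_mem' := fun c a ha => ha.smul ρ c }
    obtain ⟨v, hv, hfix⟩ := exists_fixed (k := k) p ρ (SteinbergBlock.isPGroup_U hh p)
    exact ⟨W, fun e => hv ((Submodule.eq_bot_iff W).1 e v hfix), fun x hx => hx,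
      fun t x hx => UFix.torus hh hx t.2, fun t ht => absurd ht (Finset.notMem_empty t)⟩
  | insert t s _ ih =>
    obtain ⟨W, hW, h1, h2, h3⟩ := ih
    let f : Module.End k W := (ρ (t : ↥(D.group F))).restrict (h2 t)
    haveI : Nontrivial W := Submodule.nontrivial_iff_ne_bot.2 hW
    obtain ⟨c, hc⟩ := Module.End.exists_eigenvalue f
    obtain ⟨x, hx, hx0⟩ := hc.exists_hasEigenvector
    refine ⟨W ⊓ Module.End.eigenspace (ρ (t : ↥(D.group F))) c, ?_, fun y hy => h1 y hy.1,
      fun t' y hy => ⟨h2 t' y hy.1, ?_⟩, fun t' ht' => ?_⟩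
    · intro e
      have : (x : M) ∈ W ⊓ Module.End.eigenspace (ρ (t : ↥(D.group F))) c :=
        ⟨x.2, Module.End.mem_eigenspace_iff.2 (congrArg Subtype.val (Module.End.mem_eigenspace_iff.1 hx))⟩
      rw [e, Submodule.mem_bot] at this
      exact hx0 (Subtype.ext this)
    · have hyc := Module.End.mem_eigenspace_iff.1 hy.2
      refine Module.End.mem_eigenspace_iff.2 ?_
      rw [← rep_mul, TG_comm hh t.2 t'.2, rep_mul, hyc, map_smul]
    · rcases Finset.mem_insert.1 ht' with rfl | ht'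
      · exact ⟨c, fun y hy => Module.End.mem_eigenspace_iff.1 hy.2⟩
      · exact (h3 t' ht').imp fun d hd y hy => hd y hy.1

/-- Every nonzero representation has a weight vector. -/
theorem exists_eigen (p : ℕ) [Fact p.Prime] [CharP F p] [CharP k p] [IsAlgClosed k]
    [FiniteDimensional k M] [Nontrivial M] : ∃ χ J v, IsEigen hh ρ χ J v := by
  have h := hh.toChecked
  obtain ⟨v, hv, hfix, hev⟩ := exists_torus_eigen hh (ρ := ρ) p
  let S := Finset.univ.filter fun w : Equiv.Perm (Fin D.nroots) =>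
    ∃ L, IsWord D L ∧ wperm h L = w ∧ cellSum ρ (wG hh L) v ≠ 0
  have hne : S.Nonempty := ⟨1, Finset.mem_filter.2 ⟨Finset.mem_univ _, [], isWord_nil, wperm_nil h, by
    rwa [wG_nil, cellSum_one ρ hfix]⟩⟩
  obtain ⟨w, hw, hmax⟩ := Finset.exists_max_image S (fun w => (invs w).card) hne
  obtain ⟨L, hL, rfl, hx⟩ := (Finset.mem_filter.1 hw).2
  set x := cellSum ρ (wG hh L) v with hxdef
  have hxT : ∀ t : ↥(TG D F), ∃ c : k, ρ (t : ↥(D.group F)) x = c • x := by
    intro t
    obtain ⟨t', ht', et⟩ := word_conj_T hh hL t.2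
    obtain ⟨c, hc⟩ := hev ⟨t', ht'⟩
    refine ⟨c, ?_⟩
    rw [hxdef, torus_cellSum hh hfix t.2, et, cellSum_mul_torus hh hfix ht', hc, map_smul]
  choose c hc using hxT
  let χ : ↥(TG D F) →* k :=
    { toFun := c
      map_one' := smul_left_injective k hx (by
        show c 1 • x = (1 : k) • x
        rw [← hc, one_smul, Subgroup.coe_one, map_one]; rfl)
      map_mul' := fun a b => smul_left_injective k hx (by
        show c (a * b) • x = (c a * c b) • x
        rw [← hc, Subgroup.coe_mul, rep_mul, hc b, map_smul, hc a, smul_smul, mul_comm]) }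
  refine ⟨χ, Finset.univ.filter fun i : Fin D.rank =>
    ¬ D.nroots / 2 ≤ perm C L.reverse (D.simple i.1) ∧ Triv hh χ i, x, hx, hfix.cellSum _, hc, fun i => ?_⟩
  by_cases ha : D.nroots / 2 ≤ perm C L.reverse (D.simple i.1)
  · rw [if_neg fun hm => (Finset.mem_filter.1 hm).2.1 ha, zero_smul, hxdef, tau_cellSum hh hfix i hL ha]
    by_contra hne'
    have hiL := isWord_cons i.2 hL
    have hmem : wperm h (i.1 :: L) ∈ S :=
      Finset.mem_filter.2 ⟨Finset.mem_univ _, _, hiL, rfl, hne'⟩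
    have hd : ¬ Asc (wperm h (i.1 :: L))⁻¹ i.1 := by
      intro hasc
      have h1 := (h.asc_iff i.2).1 hasc
      rw [wperm_cons, mul_inv_rev, Equiv.Perm.mul_apply, h.sigma_inv, h.sigma_sroot i.2,
        h.weyl_ng (inv_mem (h.mem_weyl_of_word hL)), h.ngFin_pos, ← wperm_reverse hh hL,
        h.wperm_val hL.reverse] at h1
      exact h1 ha
    have h2 := hh.invs_sigma_mul_lt (h.mem_weyl_of_word hiL) i.2 hd
    rw [wperm_cons, ← mul_assoc, h.sigma_sigma, one_mul] at h2
    have h3 := hmax _ hmem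
    rw [wperm_cons] at h3
    omega
  · rw [hxdef, tau_cellSum_desc hh p hfix i hL ha, ← hxdef, sum_hI_apply hh p (χ := χ) hc i]
    congr 1
    by_cases hT : Triv hh χ i
    · rw [if_pos hT, if_pos (Finset.mem_filter.2 ⟨Finset.mem_univ _, ha, hT⟩)]
    · rw [if_neg hT, if_neg fun hm => hT (Finset.mem_filter.1 hm).2.2]

end Cfsg.Agent.Lib.RegularCount
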