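import Mathlib
import Cfsg.Agent.Lib.RegularCount.Eigen
import Cfsg.Agent.Lib.Blocks.NilKernel

/-!
# The translates of a weight vector by `U⁻`

They span a subspace stable under the whole group.  Hence a weight determines an irreducible
representation, and the vectors fixed by `U` in an irreducible representation form a line.
-/

set_option autoImplicit false

namespace Cfsg.Agent.Lib.RegularCount

open Cfsg.Lie
open Cfsg.Agent.Lib.Chev
open Cfsg.Agent.Lib.SteinbergBlock (xG)
open scoped Classical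

universe u v w

variable {D : ChevalleyDatum} {C : Cert} {F : Type u} [Field F]
variable (hh : Rooted D C)

include hh in
theorem mem_negSet_of_ne (i : Fin D.rank) {s : ℕ} (hs : s ∈ negSet D) (hne : s ≠ ng D (D.simple i.1)) :
    ∃ l < D.rank, l ≠ i.1 ∧ coef D C l s < 0 := by
  have h := hh.toChecked
  have hs' : s < D.nroots / 2 := hs
  have hlt : s < D.nroots := by omega
  have hp : ng D s ∈ posSet D := ⟨by have := h.two_mul_half; unfold ng; omega, Checked.ng_lt hlt⟩
  obtain ⟨l, hl, hli, hpos⟩ := hh.exists_coef_pos i.2 hp fun e => hne (by rw [← e, Checked.ng_ng hlt])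
  refine ⟨l, hl, hli, ?_⟩
  rw [h.coef_neg hl hlt] at hpos
  omega

include hh in
/-- Both root groups of a fundamental root normalise the radical of `U⁻`. -/
theorem rootSubgroup_normalizes_negRad (i : Fin D.rank) {r : ℕ}
    (hr : r = D.simple i.1 ∨ r = ng D (D.simple i.1)) :
    D.rootSubgroup F r ≤
      Subgroup.normalizer (rootGen D F (negSet D \ {ng D (D.simple i.1)}) : Set (GL D.Idx F)) := by
  have h := hh.toChecked
  have hp := h.simple_lt i.2
  have hrlt : r < D.nroots := by rcases hr with rfl | rfl; exacts [hp, Checked.ng_lt hp]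
  refine h.rootSubgroup_le_normalizer (fun s hs => by
    have h1 : s < D.nroots / 2 := hs.1; omega) hrlt fun s hs _ => ?_
  have hs1 : s < D.nroots / 2 := hs.1
  have hs' : s < D.nroots := by omega
  obtain ⟨l, hl, hli, hneg⟩ := mem_negSet_of_ne hh i hs.1 hs.2
  have e0 : coef D C l r = 0 := by
    have e1 : coef D C l (D.simple i.1) = 0 := by
      rw [(h.simple_tab i.2 hl).2.1, if_neg (Ne.symm hli)]
    rcases hr with rfl | rfl
    · exact e1
    · rw [h.coef_neg hl hp, e1, neg_zero]
  refine ⟨fun e => ?_, fun c hc => ?_⟩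
  · rw [e, h.coef_neg hl hrlt, e0, neg_zero] at hneg
    exact lt_irrefl _ hneg
  obtain ⟨hlt, _, hj, hφ⟩ := h.cTerms_spec hrlt hs' c hc
  have e := hφ _ (h.isAdd_coef hl)
  rw [e0, mul_zero, zero_add] at e
  have hneg' : coef D C l c.1 < 0 := by
    rw [e]; exact mul_neg_of_pos_of_neg (by exact_mod_cast hj) hneg
  have hn : c.1 < D.nroots / 2 := by
    by_contra hn
    have := h.coef_nonneg hl hlt (not_lt.1 hn)
    omega
  refine ⟨hn, fun e' => ?_⟩
  rw [Set.mem_singleton_iff] at e'
  rw [e', h.coef_neg hl hp, (h.simple_tab i.2 hl).2.1, if_neg (Ne.symm hli), neg_zero] at hneg'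
  exact lt_irrefl _ hneg'

/-- `U⁻ = R⁻ X₋`. -/
theorem exists_split_neg (i : Fin D.rank) {a : ↥(D.group F)} (ha : a ∈ VG D F) :
    ∃ (r : ↥(D.group F)) (s : F),
      (r : GL D.Idx F) ∈ rootGen D F (negSet D \ {ng D (D.simple i.1)}) ∧
        a = r * (nI hh i * xI hh i s * (nI hh i)⁻¹) := by
  have h := hh.toChecked
  set m := ng D (D.simple i.1) with hm
  have hp := h.simple_lt i.2
  have hmlt : m < D.nroots := Checked.ng_lt hp
  have hle : rootGen D F (negSet D) ≤ rootGen D F (negSet D \ {m}) ⊔ D.rootSubgroup F m := by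
    rw [rootGen, Subgroup.closure_le]
    rintro g ⟨s, t, hs, e⟩
    by_cases hsm : s = m
    · exact Subgroup.mem_sup_right (Subgroup.subset_closure ⟨t, hsm ▸ e⟩)
    · exact Subgroup.mem_sup_left (mem_rootGen (S := negSet D \ {m}) ⟨hs, hsm⟩ e)
  have ha' : (a : GL D.Idx F) ∈ (↑(rootGen D F (negSet D \ {m}) ⊔ D.rootSubgroup F m) : Set (GL D.Idx F)) := by
    refine hle ?_
    rw [← h.negUnipotent_eq]; exact ha
  rw [Subgroup.coe_mul_of_right_le_normalizer_left _ _
    (rootSubgroup_normalizes_negRad hh i (Or.inr hm))] at ha'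
  obtain ⟨r, hr, x, hx, e⟩ := ha'
  obtain ⟨c, rfl⟩ := (h.rootSubgroup_mem_iff hmlt).1 hx
  obtain ⟨s, hs⟩ : ∃ s : F, (eta C i.1 (D.simple i.1) : F) * s = c :=
    ⟨(eta C i.1 (D.simple i.1) : F) * c, by rw [← mul_assoc, etaF_sq, one_mul]⟩
  refine ⟨a * (nI hh i * xI hh i s * (nI hh i)⁻¹)⁻¹, s, ?_, by group⟩
  have e2 : ((nI hh i * xI hh i s * (nI hh i)⁻¹ : ↥(D.group F)) : GL D.Idx F) = xGL h F hmlt c := by
    show nS h F i.1 * xGL h F hp s * (nS h F i.1)⁻¹ = _
    rw [h.nS_conj_x i.2 hp, mul_inv_cancel_right, hs]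
    exact Units.ext (by rw [coe_xGL, coe_xGL, h.simple_refl i.2])
  rw [Subgroup.coe_mul, Subgroup.coe_inv, e2, ← e]
  show r * xGL h F hmlt c * (xGL h F hmlt c)⁻¹ ∈ _
  rwa [mul_inv_cancel_right]

theorem xI_conj_negRad (i : Fin D.rank) (t : F) {r : ↥(D.group F)}
    (hr : (r : GL D.Idx F) ∈ rootGen D F (negSet D \ {ng D (D.simple i.1)})) :
    ((xI hh i t * r * (xI hh i t)⁻¹ : ↥(D.group F)) : GL D.Idx F) ∈
      rootGen D F (negSet D \ {ng D (D.simple i.1)}) :=
  (Subgroup.mem_normalizer_iff.1 (rootSubgroup_normalizes_negRad hh i (Or.inl rfl)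
    ((hh.toChecked.rootSubgroup_mem_iff (hh.toChecked.simple_lt i.2)).2 ⟨t, rfl⟩)) _).1 hr

include hh in
theorem negRad_le_VG (i : Fin D.rank) {r : ↥(D.group F)}
    (hr : (r : GL D.Idx F) ∈ rootGen D F (negSet D \ {ng D (D.simple i.1)})) : r ∈ VG D F := by
  rw [Subgroup.mem_subgroupOf, hh.toChecked.negUnipotent_eq]
  exact rootGen_mono Set.sdiff_subset hr

theorem nI_xI_conj_mem_VG (i : Fin D.rank) (s : F) : nI hh i * xI hh i s * (nI hh i)⁻¹ ∈ VG D F := by
  have h := hh.toChecked
  have hp := h.simple_lt i.2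
  rw [Subgroup.mem_subgroupOf]
  show nS h F i.1 * xGL h F hp s * (nS h F i.1)⁻¹ ∈ _
  rw [h.nS_conj_x i.2 hp, mul_inv_cancel_right]
  refine h.xGL_mem_neg _ ?_ _
  rw [h.simple_refl i.2]
  have := (h.simple_spec i.2).2
  have := h.two_mul_half
  unfold ng; omega

theorem nI_word (i : Fin D.rank) :
    (nI hh i : ↥(D.group F)) =
      xI hh i 1 * xG hh (Checked.ng_lt (hh.toChecked.simple_lt i.2)) (-1) * xI hh i 1 := by
  have h := hh.toChecked
  refine Subtype.ext (Units.ext ?_)
  simp only [Subgroup.coe_mul, Units.val_mul]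
  show ((nS h F i.1 : GL D.Idx F) : Matrix D.Idx D.Idx F) =
    D.x F (D.simple i.1) 1 * D.x F (ng D (D.simple i.1)) (-1) * D.x F (D.simple i.1) 1
  rw [coe_nS _ i.2]
  simp only [ChevalleyDatum.nMat, ChevalleyDatum.nWord, ChevalleyDatum.wordMat, List.map_cons, List.map_nil,
    List.prod_cons, List.prod_nil, mul_one, h.neg_eq (h.simple_lt i.2), inv_one, mul_assoc]

variable [Fintype F] {k : Type v} [Field k] {M : Type w} [AddCommGroup M] [Module k M]
variable {ρ : Representation k ↥(D.group F) M}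

/-- The span of the translates by `U⁻` of a weight vector is stable under the group. -/
theorem span_stable {χ : ↥(TG D F) →* k} {J : Finset (Fin D.rank)} {v : M} (hv : IsEigen hh ρ χ J v)
    (g : ↥(D.group F)) {x : M}
    (hx : x ∈ Submodule.span k (Set.range fun a : ↥(VG D F) => ρ (a : ↥(D.group F)) v)) :
    ρ g x ∈ Submodule.span k (Set.range fun a : ↥(VG D F) => ρ (a : ↥(D.group F)) v) := by
  have h := hh.toChecked
  set W := Submodule.span k (Set.range fun a : ↥(VG D F) => ρ (a : ↥(D.group F)) v) with hW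
  let P : Subgroup ↥(D.group F) :=
    { carrier := {g | ∀ x ∈ W, ρ g x ∈ W ∧ ρ g⁻¹ x ∈ W}
      one_mem' := fun x hx => by simp [hx]
      inv_mem' := fun {a} ha x hx => by rw [inv_inv]; exact (ha x hx).symm
      mul_mem' := fun {a b} ha hb x hx => by
        rw [mul_inv_rev, rep_mul, rep_mul]
        exact ⟨(ha _ (hb x hx).1).1, (hb _ (ha x hx).2).2⟩ }
  have hV : ∀ b ∈ VG D F, ∀ x ∈ W, ρ b x ∈ W := by
    intro b hb x hx
    induction hx using Submodule.span_induction with
    | mem x hx =>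
      obtain ⟨a, rfl⟩ := hx
      exact Submodule.subset_span ⟨⟨b * a, mul_mem hb a.2⟩, rep_mul ρ b a v⟩
    | zero => rw [map_zero]; exact zero_mem _
    | add _ _ _ _ ha hb' => rw [map_add]; exact add_mem ha hb'
    | smul c _ _ ha => rw [map_smul]; exact Submodule.smul_mem _ _ ha
  have hvW : v ∈ W := Submodule.subset_span ⟨1, by simp⟩
  have hX : ∀ (i : Fin D.rank) (t : F), ∀ x ∈ W, ρ (xI hh i t) x ∈ W := by
    intro i
    set n : ↥(D.group F) := nI hh i with hn
    have hsq : n * n ∈ TG D F := nI_sq_mem hh i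
    have hny : ∀ y : F, ρ (n * xI hh i y * n) v ∈ W := by
      intro y
      rw [show n * xI hh i y * n = (n * xI hh i y * n⁻¹) * (n * n) by group, rep_mul,
        hv.torus ⟨_, hsq⟩, map_smul]
      exact W.smul_mem _ (hV _ (nI_xI_conj_mem_VG hh i y) v hvW)
    -- `x(r) n v` for nonzero `r`
    have hr : ∀ r : F, r ≠ 0 → ρ (xI hh i r * n) v ∈ W := by
      intro r hr
      set η : F := (eta C i.1 (D.simple i.1) : F)
      have hη : η ≠ 0 := fun h0 => by
        have := etaF_sq (F := F) (C := C) i.1 (D.simple i.1)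
        rw [show (eta C i.1 (D.simple i.1) : F) = η from rfl, h0, mul_zero] at this
        exact zero_ne_one this
      obtain ⟨u, hu, h1⟩ := rank_oneI hh i (Units.mk0 (η * r)⁻¹ (inv_ne_zero (mul_ne_zero hη hr)))
      simp only [Units.val_mk0] at h1 hu
      have hur : -(u : F) = r := by
        rw [hu, neg_neg]
        change (η * (η * r)⁻¹)⁻¹ = r
        field_simp
      rw [hur, ← hn] at h1
      set s : ↥(D.group F) := hI hh i u with hs
      -- move the torus part to the right of `n`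
      obtain ⟨t', ht', et⟩ := word_conj_T hh (isWord_cons i.2 isWord_nil) (tI_mem hh i u)
      rw [wG_cons hh i isWord_nil, wG_nil, mul_one, ← hn, ← hs] at et
      have e1 : ρ (n * xI hh i (η * r)⁻¹ * n) v = (χ ⟨_, hsq⟩ * χ ⟨t', ht'⟩) • ρ (xI hh i r * n) v := by
        rw [h1, rep_mul (g := xI hh i r * s * n * xI hh i r), hv.torus ⟨_, hsq⟩, map_smul, rep_mul,
          hv.fix _ (xI_mem hh i r), mul_assoc (xI hh i r) s n, et, ← mul_assoc, rep_mul,
          hv.torus ⟨t', ht'⟩, map_smul, smul_smul]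
      have hne : χ ⟨_, hsq⟩ * χ ⟨t', ht'⟩ ≠ 0 := by
        rw [← map_mul]
        intro h0
        have h2 := map_mul χ (⟨_, hsq⟩ * ⟨t', ht'⟩) (⟨_, hsq⟩ * ⟨t', ht'⟩)⁻¹
        rw [mul_inv_cancel, map_one, h0, zero_mul] at h2
        exact one_ne_zero h2
      have h2 := W.smul_mem (χ ⟨_, hsq⟩ * χ ⟨t', ht'⟩)⁻¹ (hny (η * r)⁻¹)
      rwa [e1, smul_smul, inv_mul_cancel₀ hne, one_smul] at h2
    have h0 : ρ (xI hh i 0 * n) v ∈ W := by
      have e := hv.tau_eq i
      rw [tau_apply, ← Finset.add_sum_erase _ _ (Finset.mem_univ (0 : F)), ← hn,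
        ← eq_sub_iff_add_eq] at e
      rw [e]
      exact sub_mem (W.smul_mem _ hvW) (sum_mem fun r hr' => hr r (Finset.ne_of_mem_erase hr'))
    have hall : ∀ r : F, ρ (xI hh i r * n) v ∈ W := fun r => by
      by_cases e : r = 0
      · exact e ▸ h0
      · exact hr r e
    intro t x hx
    induction hx using Submodule.span_induction with
    | mem x hx =>
      obtain ⟨⟨a, ha⟩, rfl⟩ := hx
      obtain ⟨r, s, hrad, rfl⟩ := exists_split_neg hh i ha
      have hy : ρ (xI hh i t) (ρ (n * xI hh i s * n⁻¹) v) ∈ W := by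
        by_cases hs : s = 0
        · subst hs
          rw [xI_zero, mul_one, mul_inv_cancel, map_one]
          show ρ (xI hh i t) v ∈ W
          rwa [hv.fix _ (xI_mem hh i t)]
        have hsqv := hv.torus ⟨_, inv_mem hsq⟩
        rw [show n * xI hh i s * n⁻¹ = n * xI hh i s * n * (n * n)⁻¹ by group, rep_mul]
        rw [hsqv, map_smul, map_smul]
        refine W.smul_mem _ ?_
        obtain ⟨u, -, h1⟩ := rank_oneI hh i (Units.mk0 s hs)
        simp only [Units.val_mk0] at h1
        rw [← hn] at h1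
        obtain ⟨t', ht', et⟩ := word_conj_T hh (isWord_cons i.2 isWord_nil) (tI_mem hh i u)
        rw [wG_cons hh i isWord_nil, wG_nil, mul_one, ← hn] at et
        rw [h1, rep_mul (g := xI hh i (-(u : F)) * hI hh i u * n * xI hh i (-(u : F))), hv.torus ⟨_, hsq⟩,
          map_smul, map_smul]
        refine W.smul_mem _ ?_
        rw [rep_mul, hv.fix _ (xI_mem hh i _), mul_assoc (xI hh i _) (hI hh i u) n, et, ← rep_mul,
          ← mul_assoc, ← mul_assoc, xI_add, rep_mul, hv.torus ⟨t', ht'⟩, map_smul]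
        exact W.smul_mem _ (hall _)
      show ρ (xI hh i t) (ρ (r * (n * xI hh i s * n⁻¹)) v) ∈ W
      rw [rep_mul, ← rep_mul (g := xI hh i t), show xI hh i t * r = (xI hh i t * r * (xI hh i t)⁻¹) *
        xI hh i t by group, rep_mul]
      exact hV _ (negRad_le_VG hh i (xI_conj_negRad hh i t hrad)) _ hy
    | zero => rw [map_zero]; exact zero_mem _
    | add _ _ _ _ ha hb' => rw [map_add]; exact add_mem ha hb'
    | smul c _ _ ha => rw [map_smul]; exact Submodule.smul_mem _ _ ha
  have hXP : ∀ (i : Fin D.rank) (t : F), xI hh i t ∈ P := fun i t x hx =>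
    ⟨hX i t x hx, by rw [xI_inv]; exact hX i _ x hx⟩
  have hVP : ∀ b ∈ VG D F, b ∈ P := fun b hb x hx => ⟨hV b hb x hx, hV _ (inv_mem hb) x hx⟩
  have hnP : ∀ i : Fin D.rank, nI hh i ∈ P := fun i => by
    have hneg : xG hh (Checked.ng_lt (h.simple_lt i.2)) (-1 : F) ∈ VG D F := by
      refine h.xGL_mem_neg (Checked.ng_lt (h.simple_lt i.2)) ?_ _
      have := h.simple_lt i.2
      have := (h.simple_spec i.2).2
      have := h.two_mul_half
      unfold ng; omega
    rw [nI_word]
    exact mul_mem (mul_mem (hXP i 1) (hVP _ hneg)) (hXP i 1)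
  have hroot : ∀ r (hr : r < D.nroots), ∀ t : F, xG hh hr t ∈ P := by
    intro r hr
    exact hh.root_induction (P := fun r => ∀ (hr : r < D.nroots) (t : F), xG hh hr t ∈ P)
      (fun i hi _ t => hXP ⟨i, hi⟩ t)
      (fun i hi r hr ih _ t => by
        obtain ⟨s, hs⟩ : ∃ s : F, (eta C i r : F) * s = t :=
          ⟨(eta C i r : F) * t, by rw [← mul_assoc, etaF_sq, one_mul]⟩
        have e : xG hh (h.refl_lt hi hr) t =
            nI hh ⟨i, hi⟩ * xG hh hr s * (nI hh ⟨i, hi⟩)⁻¹ := by
          refine Subtype.ext ?_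
          show xGL h F (h.refl_lt hi hr) t = nS h F i * xGL h F hr s * (nS h F i)⁻¹
          rw [h.nS_conj_x hi hr, mul_inv_cancel_right, hs]
        rw [e]
        exact mul_mem (mul_mem (hnP _) (ih hr s)) (inv_mem (hnP _))) r hr hr
  have hle : D.group F ≤ P.map (D.group F).subtype := by
    conv_lhs => rw [group_eq_rootGen]
    rw [rootGen, Subgroup.closure_le]
    rintro y ⟨r, t, hr, e⟩
    exact ⟨xG hh hr t, hroot r hr t, Units.ext e.symm⟩
  obtain ⟨g', hg', e⟩ := hle g.2
  exact ((Subtype.ext e : g' = g) ▸ hg' : g ∈ P) x hx |>.1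

/-- A combination of the translates by a `p`-group whose coefficients sum to `0` is nilpotent. -/
theorem isNilpotent_sum_rep {H : Type u} [Group H] [Fintype H] {p : ℕ} [Fact p.Prime] [CharP k p]
    (hH : IsPGroup p H) (σ : Representation k H M) {c : H → k} (hc : ∑ a, c a = 0) :
    IsNilpotent (∑ a, c a • σ a : Module.End k M) := by
  set z : MonoidAlgebra k H := ∑ a, MonoidAlgebra.single a (c a) with hz
  have h1 : IsNilpotent z := by
    refine Blocks.isNilpotent_of_map_eq_zero (⊤ : Subgroup H)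
      (hH.of_injective _ (⊤ : Subgroup H).subtype_injective) ?_
    have e : ∀ a : H, (QuotientGroup.mk' (⊤ : Subgroup H)) a = 1 := fun a =>
      (QuotientGroup.eq_one_iff a).2 (Subgroup.mem_top a)
    rw [hz, map_sum]
    simp only [MonoidAlgebra.mapDomainRingHom_apply, MonoidAlgebra.mapDomain_single, e]
    refine MonoidAlgebra.ext (Finsupp.ext fun t => ?_)
    simp [MonoidAlgebra.coeff_sum, Finset.sum_apply', Finsupp.single_apply]
    exact fun _ => hc
  have h2 := h1.map σ.asAlgebraHom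
  rw [hz, map_sum] at h2
  simpa only [Representation.asAlgebraHom_single] using h2

theorem eq_zero_of_nilpotent_apply {N : Module.End k M} (hN : IsNilpotent N) {v : M} {c : k} (hc : c ≠ 0)
    (h : N v = c • v) : v = 0 := by
  obtain ⟨n, hn⟩ := hN
  have : ∀ m : ℕ, (N ^ m) v = c ^ m • v := by
    intro m
    induction m with
    | zero => simp
    | succ m ih => rw [pow_succ, Module.End.mul_apply, h, map_smul, ih, smul_smul, pow_succ']
  have h2 := this n
  rw [hn, LinearMap.zero_apply, eq_comm, smul_eq_zero] at h2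
  exact h2.resolve_left (pow_ne_zero _ hc)

include hh in
theorem isPGroup_VG (p : ℕ) [Fact p.Prime] [CharP F p] : IsPGroup p ↥(VG D F) :=
  (SteinbergBlock.isPGroup_U hh p).of_injective
    ((MulAut.conj (n0 hh)).toMonoidHom.comp (VG D F).subtype |>.codRestrict (UG D F)
      fun a => n0_conj_neg hh a.2)
    (fun a b e => Subtype.ext ((MulAut.conj (n0 hh)).injective (congrArg Subtype.val e)))

include hh in
/-- No translate combination of a weight vector separates two components of equal weight. -/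
theorem not_separated (p : ℕ) [Fact p.Prime] [CharP F p] [CharP k p]
    {M' : Type w} [AddCommGroup M'] [Module k M'] {ρ' : Representation k ↥(D.group F) M'}
    {v : M} {v' : M'} (hv : v ≠ 0) (hv' : v' ≠ 0)
    (hsep : (v, (0 : M')) ∈ Submodule.span k
      (Set.range fun a : ↥(VG D F) => (ρ.prod ρ') (a : ↥(D.group F)) (v, v'))) : False := by
  letI := Fintype.ofFinite ↥(VG D F)
  obtain ⟨c, hc⟩ := (Submodule.mem_span_range_iff_exists_fun k).1 hsep
  have e1 : ∑ a : ↥(VG D F), c a • ρ (a : ↥(D.group F)) v = v := by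
    have := congrArg Prod.fst hc
    rwa [Prod.fst_sum] at this
  have e2 : ∑ a : ↥(VG D F), c a • ρ' (a : ↥(D.group F)) v' = 0 := by
    have := congrArg Prod.snd hc
    rwa [Prod.snd_sum] at this
  set s := ∑ a, c a
  set d : ↥(VG D F) → k := c - Pi.single 1 s with hd
  have hd0 : ∑ a, d a = 0 := by simp [hd, s]
  by_cases hs : s = 0
  · have := isNilpotent_sum_rep (p := p) (isPGroup_VG hh p) (ρ.comp (VG D F).subtype) (c := c) hs
    refine hv (eq_zero_of_nilpotent_apply this one_ne_zero ?_)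
    rw [LinearMap.sum_apply, one_smul]
    exact e1
  · have := isNilpotent_sum_rep (p := p) (isPGroup_VG hh p) (ρ'.comp (VG D F).subtype) hd0
    refine hv' (eq_zero_of_nilpotent_apply this (neg_ne_zero.2 hs) ?_)
    rw [LinearMap.sum_apply]
    simp only [hd, Pi.sub_apply, sub_smul, LinearMap.sub_apply, LinearMap.smul_apply, Finset.sum_sub_distrib]
    erw [e2]
    rw [Finset.sum_eq_single 1]
    · simp
    · intro a _ ha; simp [ha]
    · simp

end Cfsg.Agent.Lib.RegularCount
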