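import Mathlib
import Cfsg.Agent.Lib.RegularCount.Brauer
import Cfsg.Agent.Lib.RegularCount.Span

/-!
# The count of weights

The irreducible representations in characteristic `p` of a Chevalley group of characteristic `p`
correspond to the weights, of which there are `q ^ l` when the torus has `l` free coordinates.
-/

set_option autoImplicit false

namespace Cfsg.Agent.Lib.RegularCount

open Cfsg.Lie
open Cfsg.Agent.Lib.Chev
open scoped Classical Matrix

universe u v

variable {D : ChevalleyDatum} {C : Cert} {F : Type u} [Field F] [Fintype F]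
variable (hh : Rooted D C)

/-- The weights. -/
abbrev Weight (k : Type v) [Field k] :=
  {x : (↥(TG D F) →* k) × Finset (Fin D.rank) // ∀ i ∈ x.2, Triv hh x.1 i}

variable {k : Type v} [Field k]
variable (p : ℕ) [Fact p.Prime] [CharP F p] [CharP k p]

theorem asAlgebraHom_single_sub {G : Type u} [Group G] {M' : Type*} [AddCommGroup M'] [Module k M']
    (ρ : Representation k G M') (g : G) (c : k) (z : M') :
    ρ.asAlgebraHom (MonoidAlgebra.single g 1 - c • 1) z = ρ g z - c • z := by
  simp [Representation.asAlgebraHom_single]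

theorem asAlgebraHom_tau_sub {M' : Type*} [AddCommGroup M'] [Module k M']
    (ρ : Representation k ↥(D.group F) M') (i : Fin D.rank) (c : k) (z : M') :
    ρ.asAlgebraHom ((∑ x : F, MonoidAlgebra.single (xI hh i x * nI hh i) 1) - c • 1) z =
      tau hh ρ i z - c • z := by
  rw [tau_apply]
  simp [Representation.asAlgebraHom_single]

section factors

variable {m : ℕ} (d : Fin m → ℕ)
  (π : MonoidAlgebra k ↥(D.group F) →ₐ[k] ((j : Fin m) → Matrix (Fin (d j)) (Fin (d j)) k))

/-- The representation on a factor. -/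
noncomputable def factorRep (j : Fin m) : Representation k ↥(D.group F) (Fin (d j) → k) :=
  ((Matrix.toLinAlgEquiv' (R := k) (n := Fin (d j))).toAlgHom.comp
    ((Pi.evalAlgHom k (fun j => Matrix (Fin (d j)) (Fin (d j)) k) j).comp π)).toMonoidHom.comp
      (MonoidAlgebra.of k ↥(D.group F))

omit [Fintype F] [CharP F p] [Fact p.Prime] [CharP k p] in
theorem factorRep_apply (j : Fin m) (a : MonoidAlgebra k ↥(D.group F)) (x : Fin (d j) → k) :
    (factorRep d π j).asAlgebraHom a x = π a j *ᵥ x := by
  induction a using MonoidAlgebra.induction_on with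
  | of g =>
    rw [Representation.asAlgebraHom_of]
    exact Matrix.toLinAlgEquiv'_apply _ _
  | add a b ha hb => rw [map_add, map_add, LinearMap.add_apply, ha, hb, Pi.add_apply, Matrix.add_mulVec]
  | smul r a ha => rw [map_smul, map_smul, LinearMap.smul_apply, ha, Pi.smul_apply, Matrix.smul_mulVec]

variable {d π} (hπ : Function.Surjective π) (hker : ∀ x, π x = 0 → IsNilpotent x)

include hh hπ p in
/-- Distinct factors have distinct weights. -/
theorem factor_inj {χ : ↥(TG D F) →* k} {J : Finset (Fin D.rank)} {j j' : Fin m}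
    {v : Fin (d j) → k} {v' : Fin (d j') → k} (hv : IsEigen hh (factorRep d π j) χ J v)
    (hv' : IsEigen hh (factorRep d π j') χ J v') : j = j' := by
  by_contra hne
  set ρ := (factorRep d π j).prod (factorRep d π j')
  have hpair : IsEigen hh ρ χ J (v, v') := by
    refine ⟨fun e => hv.ne (congrArg Prod.fst e), fun g hg => Prod.ext (hv.fix g hg) (hv'.fix g hg),
      fun t => Prod.ext (hv.torus t) (hv'.torus t), fun i => ?_⟩
    have e1 : tau hh ρ i (v, v') =
        (tau hh (factorRep d π j) i v, tau hh (factorRep d π j') i v') := by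
      rw [tau_apply, tau_apply, tau_apply]
      exact Prod.ext (by rw [Prod.fst_sum]; rfl) (by rw [Prod.snd_sum]; rfl)
    rw [e1, hv.tau_eq, hv'.tau_eq, Prod.smul_mk]
  set W := Submodule.span k (Set.range fun a : ↥(VG D F) => ρ (a : ↥(D.group F)) (v, v')) with hW
  have hstab : ∀ a : MonoidAlgebra k ↥(D.group F), ∀ x ∈ W, ρ.asAlgebraHom a x ∈ W := by
    intro a
    induction a using MonoidAlgebra.induction_on with
    | of g => intro x hx; rw [Representation.asAlgebraHom_of]; exact span_stable hh hpair g hx
    | add a b ha hb => intro x hx; rw [map_add, LinearMap.add_apply]; exact add_mem (ha x hx) (hb x hx)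
    | smul r a ha => intro x hx; rw [map_smul, LinearMap.smul_apply]; exact W.smul_mem _ (ha x hx)
  have hprod : ∀ a : MonoidAlgebra k ↥(D.group F), ∀ (x : Fin (d j) → k) (y : Fin (d j') → k),
      ρ.asAlgebraHom a (x, y) = (π a j *ᵥ x, π a j' *ᵥ y) := by
    intro a x y
    rw [← factorRep_apply, ← factorRep_apply]
    induction a using MonoidAlgebra.induction_on with
    | of g => simp only [Representation.asAlgebraHom_of]; rfl
    | add a b ha hb =>
      simp only [map_add, LinearMap.add_apply, ha, hb, Prod.mk_add_mk]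
    | smul r a ha => simp only [map_smul, LinearMap.smul_apply, ha, Prod.smul_mk]
  obtain ⟨a, ha⟩ := hπ (Pi.single j 1)
  have h1 : (v, (0 : Fin (d j') → k)) ∈ W := by
    have h2 := hstab a (v, v') (Submodule.subset_span ⟨1, by simp⟩)
    rwa [hprod, ha, Pi.single_eq_same, Pi.single_eq_of_ne (Ne.symm hne), Matrix.one_mulVec,
      Matrix.zero_mulVec] at h2
  exact not_separated hh p hv.ne hv'.ne h1

include hh hπ p in
/-- The vectors of a factor fixed by `U` form a line. -/
theorem factor_fixed_line [IsAlgClosed k] {j : Fin m} [NeZero (d j)] {x y : Fin (d j) → k}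
    (hx : UFix (factorRep d π j) x) (hy : UFix (factorRep d π j) y) (hx0 : x ≠ 0) :
    ∃ c : k, y = c • x := by
  set ρ := factorRep d π j with hρ
  haveI : Nonempty (Fin (d j)) := ⟨0⟩
  obtain ⟨χ, J, f₀, hf⟩ := exists_eigen hh (ρ := ρ.dual) p
  -- a vector fixed by `U⁻` on which `f₀` vanishes is zero
  have key : ∀ z : Fin (d j) → k, (∀ a ∈ VG D F, ρ a z = z) → f₀ z = 0 → z = 0 := by
    intro z hz h0
    have hW : ∀ φ ∈ Submodule.span k (Set.range fun a : ↥(VG D F) => ρ.dual (a : ↥(D.group F)) f₀),
        φ z = 0 := by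
      intro φ hφ
      induction hφ using Submodule.span_induction with
      | mem φ hφ =>
        obtain ⟨a, rfl⟩ := hφ
        show f₀ (ρ ((a : ↥(D.group F))⁻¹) z) = 0
        rw [hz _ (inv_mem a.2), h0]
      | zero => rfl
      | add _ _ _ _ ha hb => rw [LinearMap.add_apply, ha, hb, add_zero]
      | smul c _ _ ha => rw [LinearMap.smul_apply, ha, smul_zero]
    have hall : ∀ a : MonoidAlgebra k ↥(D.group F), f₀ (π a j *ᵥ z) = 0 := by
      intro a
      rw [← factorRep_apply]
      induction a using MonoidAlgebra.induction_on with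
      | of g =>
        rw [Representation.asAlgebraHom_of]
        have h2 := hW _ (span_stable hh hf g⁻¹ (x := f₀) (Submodule.subset_span ⟨1, by
          show ρ.dual (1 : ↥(D.group F)) f₀ = f₀
          rw [map_one]; rfl⟩))
        rw [← hρ]
        have h3 : ρ.dual g⁻¹ f₀ z = f₀ (ρ (g⁻¹)⁻¹ z) := rfl
        rwa [h3, inv_inv] at h2
      | add a b ha hb => rw [map_add, LinearMap.add_apply, map_add, ha, hb, add_zero]
      | smul r a ha => rw [map_smul, LinearMap.smul_apply, map_smul, ha, smul_zero]
    by_contra hz0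
    obtain ⟨b, hb⟩ := Function.ne_iff.1 hz0
    refine hf.ne (LinearMap.pi_ext fun a r => ?_)
    obtain ⟨A, hA⟩ := hπ (Pi.single j (Matrix.single a b (r / z b)))
    have h3 := hall A
    rw [hA, Pi.single_eq_same, Matrix.single_mulVec] at h3
    rw [LinearMap.zero_apply, ← h3]
    congr 1
    funext c
    by_cases hc : c = a
    · subst hc
      simp [div_mul_cancel₀ r hb]
    · simp [Pi.single_eq_of_ne hc, Function.update_of_ne hc]
  have hVfix : ∀ {z}, UFix ρ z → ∀ a ∈ VG D F, ρ a (ρ (n0 hh)⁻¹ z) = ρ (n0 hh)⁻¹ z := by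
    intro z hz a ha
    rw [← rep_mul, show a * (n0 hh)⁻¹ = (n0 hh)⁻¹ * (n0 hh * a * (n0 hh)⁻¹) by group, rep_mul,
      hz _ (n0_conj_neg hh ha)]
  set x' := ρ (n0 hh)⁻¹ x with hx'
  set y' := ρ (n0 hh)⁻¹ y with hy'
  have hinj : ∀ z, ρ (n0 hh) (ρ (n0 hh)⁻¹ z) = z := fun z => by
    rw [← rep_mul, mul_inv_cancel, map_one]; rfl
  have hfx : f₀ x' ≠ 0 := by
    intro h0
    have := key x' (hVfix hx) h0
    apply hx0
    rw [← hinj x, ← hx', this, map_zero]
  refine ⟨f₀ y' / f₀ x', ?_⟩
  have h1 := key (y' - (f₀ y' / f₀ x') • x') (fun a ha => by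
      rw [map_sub, map_smul, hVfix hy a ha, hVfix hx a ha])
    (by rw [map_sub, map_smul, smul_eq_mul, div_mul_cancel₀ _ hfx, sub_self])
  rw [sub_eq_zero] at h1
  have h2 := congrArg (ρ (n0 hh)) h1
  rw [map_smul, hy', hx', hinj, hinj] at h2
  exact h2

include hh hπ hker in
/-- A weight occurring somewhere occurs in a factor. -/
theorem factor_surj {M : Type*} [AddCommGroup M] [Module k M] {σ : Representation k ↥(D.group F) M}
    {χ : ↥(TG D F) →* k} {J : Finset (Fin D.rank)} {y : M} (hy : IsEigen hh σ χ J y) :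
    ∃ (j : Fin m) (v : Fin (d j) → k), IsEigen hh (factorRep d π j) χ J v := by
  set R := σ.asAlgebraHom with hR
  let A : Submodule k (MonoidAlgebra k ↥(D.group F)) :=
    { carrier := {a | ∃ i, π i = 0 ∧ R a y = R i y}
      add_mem' := by
        rintro a b ⟨i, hi, ea⟩ ⟨i', hi', eb⟩
        exact ⟨i + i', by rw [map_add, hi, hi', add_zero],
          by simp only [map_add, LinearMap.add_apply, ea, eb]⟩
      zero_mem' := ⟨0, map_zero π, rfl⟩
      smul_mem' := by
        rintro c a ⟨i, hi, ea⟩
        exact ⟨c • i, by rw [map_smul, hi, smul_zero], by simp only [map_smul, LinearMap.smul_apply, ea]⟩ }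
  have hmul : ∀ b a, a ∈ A → b * a ∈ A := by
    rintro b a ⟨i, hi, ea⟩
    exact ⟨b * i, by rw [map_mul, hi, mul_zero], by simp only [map_mul, Module.End.mul_apply, ea]⟩
  have hI : ∀ a, π a = 0 → a ∈ A := fun a ha => ⟨a, ha, rfl⟩
  choose e he using fun j : Fin m => hπ (Pi.single j 1)
  obtain ⟨j, hj⟩ : ∃ j, e j ∉ A := by
    by_contra hall
    push Not at hall
    have h1 : (1 : MonoidAlgebra k ↥(D.group F)) - ∑ j, e j ∈ A := hI _ (by
      rw [map_sub, map_one, map_sum, Finset.sum_congr rfl fun j _ => he j, sub_eq_zero]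
      exact (Finset.univ_sum_single (1 : (j : Fin m) → Matrix (Fin (d j)) (Fin (d j)) k)).symm)
    have h2 := A.add_mem h1 (A.sum_mem fun j _ => hall j : ∑ j, e j ∈ A)
    rw [sub_add_cancel] at h2
    obtain ⟨i, hi, e1⟩ := h2
    rw [map_one, Module.End.one_apply] at e1
    exact hy.ne (eq_zero_of_nilpotent_apply ((hker i hi).map R) one_ne_zero (by rw [one_smul, ← e1]))
  let L : Submodule k (Matrix (Fin (d j)) (Fin (d j)) k) := A.map ((LinearMap.proj j).comp π.toLinearMap)
  have hLmem : ∀ {a}, a ∈ A → π a j ∈ L := fun {a} ha => ⟨a, ha, rfl⟩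
  have hLmul : ∀ N M', M' ∈ L → N * M' ∈ L := by
    rintro N _ ⟨a, ha, rfl⟩
    obtain ⟨b, hb⟩ := hπ (Pi.single j N)
    refine ⟨b * a, hmul b a ha, ?_⟩
    simp [hb]
  have h1L : (1 : Matrix (Fin (d j)) (Fin (d j)) k) ∉ L := by
    rintro ⟨a, ha, ha1⟩
    refine hj ?_
    have h1 : e j - e j * a ∈ A := hI _ (by
      funext i
      rw [map_sub, map_mul, he, Pi.sub_apply, Pi.mul_apply, Pi.zero_apply]
      by_cases hi : i = j
      · subst hi
        have : π a i = 1 := ha1
        rw [this, mul_one, sub_self]
      · rw [Pi.single_eq_of_ne hi, zero_mul, sub_zero])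
    have := A.add_mem h1 (hmul (e j) a ha)
    rwa [sub_add_cancel] at this
  obtain ⟨v, hv0, hv⟩ : ∃ v : Fin (d j) → k, v ≠ 0 ∧ ∀ M' ∈ L, M' *ᵥ v = 0 := by
    let Φ : (Fin (d j) → k) →ₗ[k] (↥L → Fin (d j) → k) :=
      { toFun := fun v M' => (M' : Matrix (Fin (d j)) (Fin (d j)) k) *ᵥ v
        map_add' := fun a b => by funext M'; exact Matrix.mulVec_add _ a b
        map_smul' := fun c a => by funext M'; exact Matrix.mulVec_smul _ c a }
    by_contra hall
    push Not at hall
    -- the rows of `L` span everything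
    let Rw : Submodule k (Fin (d j) → k) :=
      Submodule.span k {r | ∃ M' ∈ L, ∃ a, r = (M' : Matrix (Fin (d j)) (Fin (d j)) k) a}
    have hsingle : ∀ (o : Fin (d j)) (r : Fin (d j) → k), r ∈ Rw →
        Matrix.of (fun c => if c = o then r else 0) ∈ L := by
      intro o r hr
      induction hr using Submodule.span_induction with
      | mem r hr =>
        obtain ⟨M', hM', a, rfl⟩ := hr
        have h2 := hLmul (Matrix.single o a 1) M' hM'
        convert h2 using 1
        ext c b
        by_cases hc : c = o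
        · subst hc; simp [Matrix.single_mul_apply_same]
        · simp [hc, Matrix.single_mul_apply_of_ne _ _ _ _ _ hc]
      | zero =>
        convert L.zero_mem using 1
        ext c b
        by_cases hc : c = o <;> simp [hc]
      | add a b _ _ ha hb =>
        convert L.add_mem ha hb using 1
        ext c e'
        by_cases hc : c = o <;> simp [hc]
      | smul t a _ ha =>
        convert L.smul_mem t ha using 1
        ext c e'
        by_cases hc : c = o <;> simp [hc]
    have htop : Rw = ⊤ := by
      by_contra hne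
      obtain ⟨φ, hφ0, hφ⟩ := Submodule.exists_dual_map_eq_bot_of_lt_top (lt_top_iff_ne_top.2 hne) inferInstance
      obtain ⟨M', hM', hne'⟩ := hall (fun b => φ (Pi.single b 1)) (fun e0 => hφ0 (LinearMap.pi_ext fun b r => by
        rw [show (Pi.single b r : Fin (d j) → k) = r • Pi.single b 1 by
          rw [← Pi.single_smul, smul_eq_mul, mul_one], map_smul, LinearMap.zero_apply,
          show φ (Pi.single b 1) = 0 from congrFun e0 b, smul_zero]))
      refine hne' (funext fun a => ?_)
      have h2 : φ (M' a) = 0 := by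
        have : φ (M' a) ∈ Rw.map φ := ⟨_, Submodule.subset_span ⟨M', hM', a, rfl⟩, rfl⟩
        rwa [hφ, Submodule.mem_bot] at this
      rw [Pi.zero_apply, ← h2]
      conv_rhs => rw [show M' a = ∑ b, M' a b • (Pi.single b 1 : Fin (d j) → k) by
        funext c; simp [Finset.sum_apply, Pi.single_apply]]
      rw [map_sum]
      show ∑ b, M' a b * φ (Pi.single b 1) = _
      exact Finset.sum_congr rfl fun b _ => by rw [map_smul, smul_eq_mul]
    refine h1L ?_
    have e1 : (1 : Matrix (Fin (d j)) (Fin (d j)) k) =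
        ∑ o, Matrix.of (fun c => if c = o then (Pi.single o 1 : Fin (d j) → k) else 0) := by
      ext c b
      rw [Matrix.sum_apply, Finset.sum_eq_single c]
      · simp [Matrix.one_apply, Pi.single_apply, eq_comm]
      · intro o _ ho; simp [Ne.symm ho]
      · simp
    rw [e1]
    exact L.sum_mem fun o _ => hsingle o _ (htop ▸ Submodule.mem_top)
  have hann : ∀ a, R a y = 0 → (factorRep d π j).asAlgebraHom a v = 0 := fun a ha => by
    rw [factorRep_apply]
    exact hv _ (hLmem ⟨0, map_zero π, by rw [ha, map_zero, LinearMap.zero_apply]⟩)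
  refine ⟨j, v, hv0, fun g hg => ?_, fun t => ?_, fun i => ?_⟩
  · have := hann (MonoidAlgebra.single g 1 - (1 : k) • 1) (by
      rw [hR, asAlgebraHom_single_sub, one_smul, hy.fix g hg, sub_self])
    rwa [asAlgebraHom_single_sub, one_smul, sub_eq_zero] at this
  · have := hann (MonoidAlgebra.single (t : ↥(D.group F)) 1 - χ t • 1) (by
      rw [hR, asAlgebraHom_single_sub, hy.torus t, sub_self])
    rwa [asAlgebraHom_single_sub, sub_eq_zero] at this
  · have := hann ((∑ x : F, MonoidAlgebra.single (xI hh i x * nI hh i) 1) -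
        (if i ∈ J then (-1 : k) else 0) • 1) (by
      rw [hR, asAlgebraHom_tau_sub, hy.tau_eq i, sub_self])
    rwa [asAlgebraHom_tau_sub, sub_eq_zero] at this

include hπ hker p in
theorem card_weight_eq [IsAlgClosed k] [∀ j, NeZero (d j)] :
    Nat.card (Weight hh (F := F) k) = m := by
  choose χ J v hv using fun j : Fin m =>
    haveI : Nonempty (Fin (d j)) := ⟨0⟩
    exists_eigen hh (ρ := factorRep d π j) p
  let w : Fin m → Weight hh (F := F) k := fun j => ⟨(χ j, J j), fun i hi => (hv j).triv hh p hi⟩
  have hw : Function.Bijective w := by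
    refine ⟨fun a b e => ?_, fun x => ?_⟩
    · have e1 := congrArg Subtype.val e
      have hb := hv b
      rw [← show χ a = χ b from congrArg Prod.fst e1, ← show J a = J b from congrArg Prod.snd e1] at hb
      exact factor_inj hh p hπ (hv a) hb
    · obtain ⟨σ, y, hy⟩ := exists_regular_weight hh p (J := x.1.2) x.2
      obtain ⟨j, z, hz⟩ := factor_surj hh hπ hker hy
      refine ⟨j, Subtype.ext ?_⟩
      obtain ⟨c, rfl⟩ := factor_fixed_line hh p hπ (hv j).fix hz.fix (hv j).ne
      have hc : c ≠ 0 := fun e => hz.ne (by rw [e, zero_smul])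
      refine Prod.ext (MonoidHom.ext fun t => ?_) (Finset.ext fun i => ?_)
      · have h1 := hz.torus t
        rw [map_smul, (hv j).torus, smul_comm] at h1
        exact smul_left_injective k hz.ne h1
      · have h1 := hz.tau_eq i
        rw [map_smul, (hv j).tau_eq, smul_comm] at h1
        have h2 : (if i ∈ J j then (-1 : k) else 0) = (if i ∈ x.1.2 then (-1 : k) else 0) :=
          smul_left_injective k hz.ne h1
        show i ∈ J j ↔ _
        split_ifs at h2 with ha hb hb
        · exact iff_of_true ha hb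
        · exact absurd h2 (neg_ne_zero.2 one_ne_zero)
        · exact absurd h2.symm (neg_ne_zero.2 one_ne_zero)
        · exact iff_of_false ha hb
  rw [← Nat.card_congr (Equiv.ofBijective w hw), Nat.card_eq_fintype_card, Fintype.card_fin]

end factors

/-! ### The weights counted by coordinates -/

/-- An entry of a matrix given by rows. -/
def rowsEntry (N : List (List ℤ)) (i j : ℕ) : ℤ := (N.getD i []).getD j 0

/-- A check that the product of the Cartan matrix with a matrix is `d`. -/
def chkCartanInv (D : ChevalleyDatum) (C : Cert) (N : List (List ℤ)) (d : ℕ) : Bool :=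
  allN D.rank fun i => allN D.rank fun j =>
    decide (zsum (fun l => cm C i l * rowsEntry N l j) D.rank = bif Nat.beq i j then (d : ℤ) else 0)

theorem prod_zpow_sum {A : Type*} [CommGroup A] {ι : Type*} (a : A) (f : ι → ℤ) (s : Finset ι) :
    a ^ (∑ i ∈ s, f i) = ∏ i ∈ s, a ^ f i := by
  induction s using Finset.induction_on with
  | empty => simp
  | insert x s hx ih => rw [Finset.sum_insert hx, Finset.prod_insert hx, zpow_add, ih]

omit [Fintype F] in
include hh in
/-- A trivial element of the torus is killed by the Cartan matrix. -/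
theorem torusHom_eq_one_row {c : ℕ → Fˣ} (e : torusHom D F c = 1) {j : ℕ} (hj : j < D.rank) :
    ∏ i ∈ Finset.range D.rank, c i ^ cm C i j = 1 := by
  have h := hh.toChecked
  have e1 := congrArg (fun g : GL D.Idx F => (g : Matrix D.Idx D.Idx F)
    (Sum.inr ⟨D.simple j, h.simple_lt hj⟩) (Sum.inr ⟨D.simple j, h.simple_lt hj⟩)) e
  simp only [coe_torusHom, Units.val_one, Matrix.one_apply_eq] at e1
  have e2 : torusFun D c (D.simple j) = 1 := Units.ext (by simpa [ChevalleyDatum.charDiag] using e1)
  rw [torusFun] at e2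
  rw [← e2]
  refine Finset.prod_congr rfl fun i hi => ?_
  congr 1
  rw [h.cartan_eq (Finset.mem_range.1 hi) (h.simple_lt hj), zsum_eq, Finset.sum_eq_single j]
  · rw [(h.simple_tab hj hj).2.1]; simp
  · intro k hk hne
    rw [(h.simple_tab hj (Finset.mem_range.1 hk)).2.1, if_neg (Ne.symm hne), zero_mul]
  · intro hn; exact absurd (Finset.mem_range.2 hj) hn

include hh in
/-- The coordinates are faithful when the Cartan matrix is invertible prime to `q - 1`. -/
theorem coord_eq_one {N : List (List ℤ)} {d : ℕ} (hN : chkCartanInv D C N d = true)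
    (hd : (Fintype.card F - 1).gcd d = 1) {c : ℕ → Fˣ} (hc : torusHom D F c = 1) {i : ℕ}
    (hi : i < D.rank) : c i = 1 := by
  simp only [chkCartanInv, allN_iff, decide_eq_true_iff, zsum_eq, natBeq_eq, Bool.cond_decide] at hN
  have h1 : ∏ l ∈ Finset.range D.rank, (∏ m ∈ Finset.range D.rank, c m ^ cm C m l) ^ rowsEntry N l i = 1 :=
    Finset.prod_eq_one fun l hl => by rw [torusHom_eq_one_row hh hc (Finset.mem_range.1 hl), one_zpow]
  simp only [← Finset.prod_zpow, ← zpow_mul] at h1
  rw [Finset.prod_comm, Finset.prod_eq_single i] at h1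
  · rw [← prod_zpow_sum, hN i hi i hi, if_pos rfl, zpow_natCast] at h1
    have h3 := (pow_gcd_eq_one (a := c i) (m := Fintype.card Fˣ) (n := d)).2 ⟨pow_card_eq_one, h1⟩
    rwa [Fintype.card_units, hd, pow_one] at h3
  · intro m hm hne
    rw [← prod_zpow_sum, hN m (Finset.mem_range.1 hm) i hi, if_neg hne, zpow_zero]
  · intro hn; exact absurd (Finset.mem_range.2 hi) hn

variable [IsAlgClosed k]

include p in
theorem card_charUnits : Nat.card (Fˣ →* k) = Fintype.card F - 1 := by
  haveI : NeZero (Monoid.exponent Fˣ : k) := ⟨fun h => by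
    have hd : p ∣ Fintype.card Fˣ :=
      ((CharP.cast_eq_zero_iff k p _).1 h).trans Group.exponent_dvd_card
    rw [Fintype.card_units] at hd
    obtain ⟨n, -, hn⟩ := FiniteField.card F p
    have h2 : p ∣ Fintype.card F := hn ▸ dvd_pow_self p n.ne_zero
    have h3 := Nat.dvd_sub h2 hd
    rw [Nat.sub_sub_self Fintype.card_pos] at h3
    exact (Fact.out : p.Prime).ne_one (Nat.dvd_one.1 h3)⟩
  rw [← Fintype.card_units, ← Nat.card_eq_fintype_card,
    ← CommGroup.card_monoidHom_of_hasEnoughRootsOfUnity Fˣ k]
  refine Nat.card_congr ⟨fun f => f.toHomUnits, fun f => (Units.coeHom k).comp f, fun f => ?_, fun f => ?_⟩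
  · ext x; rfl
  · ext x; rfl

/-- The values of a weight at one coroot. -/
abbrev Slot (F : Type u) [Field F] (k : Type v) [Field k] :=
  {x : (Fˣ →* k) × Bool // x.2 = true → x.1 = 1}

include p in
theorem card_slot : Nat.card (Slot F k) = Fintype.card F := by
  let e : Slot F k ≃ Option (Fˣ →* k) :=
    { toFun := fun x => if x.1.2 then none else some x.1.1
      invFun := fun o => o.elim ⟨(1, true), fun _ => rfl⟩ fun f => ⟨(f, false), fun h => by simp at h⟩
      left_inv := by
        rintro ⟨⟨f, b⟩, h⟩
        cases b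
        · rfl
        · simp only [if_true, Option.elim_none]
          exact Subtype.ext (Prod.ext (h rfl).symm rfl)
      right_inv := by rintro (_ | f) <;> rfl }
  haveI : Finite (Fˣ →* k) := Nat.finite_of_card_ne_zero (by
    rw [card_charUnits p]
    have := Fintype.one_lt_card (α := F)
    omega)
  rw [Nat.card_congr e, Finite.card_option, card_charUnits p]
  have := Fintype.one_lt_card (α := F)
  omega

/-- The coordinates of the torus. -/
noncomputable def coordT : (Fin D.rank → Fˣ) →* ↥(TG D F) where
  toFun c := ⟨⟨torusHom D F (fun i => if hi : i < D.rank then c ⟨i, hi⟩ else 1),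
    hh.diagonal_le_group (SteinbergBlock.torusHom_mem hh _)⟩, SteinbergBlock.torusHom_mem hh _⟩
  map_one' := Subtype.ext (Subtype.ext (by
    show torusHom D F _ = 1
    rw [← map_one (torusHom D F)]
    congr 1
    funext i
    split_ifs <;> rfl))
  map_mul' a b := Subtype.ext (Subtype.ext (by
    show torusHom D F _ = torusHom D F _ * torusHom D F _
    rw [← map_mul]
    congr 1
    funext i
    simp only [Pi.mul_apply]
    split_ifs <;> simp))

theorem coordT_val (c : Fin D.rank → Fˣ) :
    (((coordT hh c : ↥(TG D F)) : ↥(D.group F)) : GL D.Idx F) =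
      torusHom D F (fun i => if hi : i < D.rank then c ⟨i, hi⟩ else 1) := rfl

theorem coordT_single (i : Fin D.rank) (a : Fˣ) : coordT hh (Pi.mulSingle i a) = hT hh i a := by
  refine Subtype.ext (Subtype.ext ?_)
  show torusHom D F _ = torusHom D F (Pi.mulSingle i.1 a)
  congr 1
  funext j
  by_cases hj : j < D.rank
  · by_cases e : j = i.1
    · subst e; simp
    · rw [dif_pos hj, Pi.mulSingle_eq_of_ne e, Pi.mulSingle_eq_of_ne (fun h => e (congrArg Fin.val h))]
  · rw [dif_neg hj, Pi.mulSingle_eq_of_ne (fun e => hj (by rw [e]; exact i.2))]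

include p in
theorem card_weight {N : List (List ℤ)} {dd : ℕ} (hs : chkCartanInv D C N dd = true)
    (hco : (Fintype.card F - 1).gcd dd = 1) :
    Nat.card (Weight hh (F := F) k) = Fintype.card F ^ D.rank := by
  have hbij : Function.Bijective (coordT (F := F) hh) := by
    refine ⟨(injective_iff_map_eq_one _).2 fun c hc => ?_, fun t => ?_⟩
    · have h1 := coordT_val hh c
      rw [hc] at h1
      funext i
      have h2 := coord_eq_one hh hs hco h1.symm i.2
      rwa [dif_pos i.2] at h2
    · have ht : ((t : ↥(D.group F)) : GL D.Idx F) ∈ D.diagonalSubgroup F := t.2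
      rw [hh.diagonalSubgroup_eq] at ht
      obtain ⟨c, hc⟩ := ht
      refine ⟨fun i => c i.val, Subtype.ext (Subtype.ext ?_)⟩
      rw [coordT_val, ← hc]
      exact SteinbergBlock.torusHom_congr hh fun i hi => by simp [hi]
  let Γ : (Fin D.rank → Fˣ) ≃* ↥(TG D F) := MulEquiv.ofBijective _ hbij
  let ofSlots : (Fin D.rank → (Fˣ →* k)) → (↥(TG D F) →* k) := fun ψ =>
    { toFun := fun t => ∏ i, ψ i (Γ.symm t i)
      map_one' := by simp
      map_mul' := fun a b => by simp [Finset.prod_mul_distrib] }
  have hof : ∀ ψ i, (ofSlots ψ).comp (hT hh i) = ψ i := by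
    intro ψ i
    ext a
    show ∏ l, ψ l (Γ.symm (hT hh i a) l) = _
    rw [show Γ.symm (hT hh i a) = Pi.mulSingle i a from
      Γ.symm_apply_eq.2 (coordT_single hh i a).symm, Finset.prod_eq_single i]
    · rw [Pi.mulSingle_eq_same]
    · intro l _ hl; rw [Pi.mulSingle_eq_of_ne hl, map_one]
    · simp
  have hext : ∀ χ χ' : ↥(TG D F) →* k, (∀ i, χ.comp (hT hh i) = χ'.comp (hT hh i)) → χ = χ' := by
    intro χ χ' h
    have h1 : χ.comp Γ.toMonoidHom = χ'.comp Γ.toMonoidHom := by
      refine MonoidHom.functions_ext k _ _ fun i a => ?_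
      show χ (coordT hh _) = χ' (coordT hh _)
      rw [coordT_single]
      exact DFunLike.congr_fun (h i) a
    ext t
    obtain ⟨c, rfl⟩ := Γ.surjective t
    exact DFunLike.congr_fun h1 c
  let E : Weight hh (F := F) k ≃ (Fin D.rank → Slot F k) :=
    { toFun := fun x i => ⟨(x.1.1.comp (hT hh i), decide (i ∈ x.1.2)), fun h => x.2 i (of_decide_eq_true h)⟩
      invFun := fun z => ⟨(ofSlots fun i => (z i).1.1, Finset.univ.filter fun i => (z i).1.2 = true),
        fun i hi => (hof _ i).trans ((z i).2 (Finset.mem_filter.1 hi).2)⟩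
      left_inv := fun x => Subtype.ext (Prod.ext (hext _ _ fun i => hof _ i) (Finset.ext fun i => by simp))
      right_inv := fun z => funext fun i => Subtype.ext (Prod.ext (hof _ i) (by simp)) }
  rw [Nat.card_congr E, Nat.card_fun, card_slot p, Nat.card_eq_fintype_card, Fintype.card_fin]

include hh p in
/-- Steinberg's count of the classes of `p`-regular elements. -/
theorem card_regular_classes {N : List (List ℤ)} {dd : ℕ} (hs : chkCartanInv D C N dd = true)
    (hco : (Fintype.card F - 1).gcd dd = 1) :
    Nat.card (RegClass p ↥(D.group F)) = Fintype.card F ^ D.rank := by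
  haveI : Fact (Nat.Prime p) := inferInstance
  let K := AlgebraicClosure (ZMod p)
  haveI : CharP K p := charP_of_injective_algebraMap (algebraMap (ZMod p) K).injective p
  obtain ⟨m, d, hd, π, hπ, hker⟩ := exists_factors (G := ↥(D.group F)) (k := K)
  rw [card_regClass (p := p) d π hπ hker, Fintype.card_fin, ← card_weight_eq hh p hπ hker,
    card_weight hh p hs hco]

end Cfsg.Agent.Lib.RegularCount
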