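import Cfsg.Agent.Lib.RegularCount.Count

/-!
The inverses, up to a factor, of the seven Cartan matrices, and the count for a datum of that kind.
-/

set_option autoImplicit false

namespace Cfsg.Agent.Lib.RegularCount

open Cfsg.Lie
open Cfsg.Agent.Lib.Chev

theorem inv_G2 : chkCartanInv chevG2 G2.cert
    [[2, 3], [1, 2]] 1 = true := by decide +kernel

theorem inv_B2 : chkCartanInv chevB2 B2.cert
    [[2, 2], [1, 2]] 2 = true := by decide +kernel

theorem inv_D4 : chkCartanInv chevD4 D4.cert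
    [[2, 2, 1, 1], [2, 4, 2, 2], [1, 2, 2, 1], [1, 2, 1, 2]] 2 = true := by decide +kernel

theorem inv_F4 : chkCartanInv chevF4 F4.cert
    [[2, 3, 4, 2], [3, 6, 8, 4], [2, 4, 6, 3], [1, 2, 3, 2]] 1 = true := by decide +kernel

theorem inv_E6 : chkCartanInv chevE6 E6.cert
    [[4, 3, 5, 6, 4, 2], [3, 6, 6, 9, 6, 3], [5, 6, 10, 12, 8, 4], [6, 9, 12, 18, 12, 6], [4, 6, 8, 12, 10, 5], [2, 3, 4, 6, 5, 4]] 3 = true := by decide +kernel

theorem inv_E7 : chkCartanInv chevE7 E7.cert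
    [[4, 4, 6, 8, 6, 4, 2], [4, 7, 8, 12, 9, 6, 3], [6, 8, 12, 16, 12, 8, 4], [8, 12, 16, 24, 18, 12, 6], [6, 9, 12, 18, 15, 10, 5], [4, 6, 8, 12, 10, 8, 4], [2, 3, 4, 6, 5, 4, 3]] 2 = true := by decide +kernel

theorem inv_E8 : chkCartanInv chevE8 E8.cert
    [[4, 5, 7, 10, 8, 6, 4, 2], [5, 8, 10, 15, 12, 9, 6, 3], [7, 10, 14, 20, 16, 12, 8, 4], [10, 15, 20, 30, 24, 18, 12, 6], [8, 12, 16, 24, 20, 15, 10, 5], [6, 9, 12, 18, 15, 12, 8, 4], [4, 6, 8, 12, 10, 8, 6, 3], [2, 3, 4, 6, 5, 4, 3, 2]] 1 = true := by decide +kernel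

universe u

/-- The count in the form of the classes of elements of order prime to `p`. -/
theorem card_coprime_classes {D : ChevalleyDatum} {C : Cert} (hh : Rooted D C) {F : Type u} [Field F]
    [Fintype F] (p : ℕ) [Fact p.Prime] [CharP F p] {N : List (List ℤ)} {d : ℕ}
    (hN : chkCartanInv D C N d = true) (hd : (Fintype.card F - 1).gcd d = 1) :
    Nat.card {c : ConjClasses ↥(D.group F) // ∃ g : ↥(D.group F), ConjClasses.mk g = c ∧
      (orderOf g).Coprime p} = Fintype.card F ^ D.rank := by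
  rw [← card_regular_classes hh p hN hd]
  refine Nat.card_congr (Equiv.subtypeEquivRight fun c => exists_congr fun g => and_congr_right fun _ => ?_)
  rw [Nat.coprime_comm, (Fact.out : p.Prime).coprime_iff_not_dvd]

/-- In characteristic two `q - 1` is odd. -/
theorem gcd_two {F : Type u} [Field F] [Fintype F] [CharP F 2] : (Fintype.card F - 1).gcd 2 = 1 := by
  haveI : Fact (Nat.Prime 2) := ⟨Nat.prime_two⟩
  obtain ⟨n, -, hn⟩ := FiniteField.card F 2
  have h1 : 2 ∣ Fintype.card F := hn ▸ dvd_pow_self 2 n.ne_zero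
  have h2 := Fintype.card_pos (α := F)
  rw [← Nat.coprime_iff_gcd_eq_one, Nat.coprime_comm, Nat.prime_two.coprime_iff_not_dvd]
  omega

end Cfsg.Agent.Lib.RegularCount
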